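import Groth.Agent.DefGlueLib.Sections
import Groth.Agent.QCoh.Sections
import Groth.Agent.H9DefAut.Der
import Mathlib.AlgebraicGeometry.Morphisms.Smooth
import Mathlib.AlgebraicGeometry.Morphisms.Etale
import Mathlib.RingTheory.Etale.Basic

/-! Sections over all affine opens, and compatible lifts of homomorphisms out of them. -/

set_option autoImplicit false
set_option linter.style.haveILetI false
set_option backward.isDefEq.respectTransparency false
set_option backward.isDefEq.respectTransparency.types false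

universe u

open CategoryTheory CategoryTheory.Limits AlgebraicGeometry TopologicalSpace Opposite ArtFun

noncomputable section

namespace Groth.Agent.H9DefObs

/-- The affine opens, ordered by inclusion. -/
abbrev Aff (X : Scheme.{u}) : Type u := {U : X.Opens // IsAffineOpen U}

variable {k : Type u} [Field k] {X : Scheme.{u}}

/-- Sections, as algebras over the ground field. -/
def Sec (_x : X ⟶ Art.specPt k) (V : X.Opens) : Type u := Γ(X, V)

variable (x : X ⟶ Art.specPt k)

instance (V : X.Opens) : CommRing (Sec x V) := inferInstanceAs (CommRing Γ(X, V))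

/-- Scalars as sections. -/
def strO (V : X.Opens) : k →+* Sec x V :=
  ((Scheme.ΓSpecIso (CommRingCat.of k)).inv ≫ x.appLE ⊤ V le_top).hom

instance (V : X.Opens) : Algebra k (Sec x V) := (strO x V).toAlgebra

/-- Restriction of sections. -/
def resS {U V : X.Opens} (h : V ≤ U) : Sec x U →ₐ[k] Sec x V where
  toRingHom := (X.presheaf.map (homOfLE h).op).hom
  commutes' c := by
    refine DFunLike.congr_fun (f := ((X.presheaf.map (homOfLE h).op).hom.comp (strO x U))) (g := strO x V) ?_ c
    rw [strO, ← CommRingCat.hom_comp, Category.assoc]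
    exact congrArg (fun g => ((Scheme.ΓSpecIso (CommRingCat.of k)).inv ≫ g).hom) (Scheme.Hom.appLE_map x _ _)

theorem resS_resS {U V W : X.Opens} (h : V ≤ U) (h' : W ≤ V) (s : Sec x U) :
    resS x h' (resS x h s) = resS x (h'.trans h) s :=
  H9DefAut.res_res h h' s

theorem resS_refl {U : X.Opens} (s : Sec x U) : resS x (le_refl U) s = s := by
  change X.presheaf.map (homOfLE (le_refl U)).op s = s
  rw [show (homOfLE (le_refl U)).op = 𝟙 (op U) from rfl, CategoryTheory.Functor.map_id]
  rfl

theorem resS_comp {U V W : X.Opens} (h : V ≤ U) (h' : W ≤ V) :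
    (resS x h').comp (resS x h) = resS x (h'.trans h) :=
  AlgHom.ext (resS_resS x h h')

theorem etale_resS {U V : X.Opens} (hU : IsAffineOpen U) (hV : IsAffineOpen V) (h : V ≤ U) :
    (resS x h).toRingHom.Etale := by
  have h1 := (𝟙 X : X ⟶ X).etale_appLE hU hV h
  have h2 : (𝟙 X : X ⟶ X).appLE U V h = X.presheaf.map (homOfLE h).op := by
    simp [Scheme.Hom.appLE]
  rw [h2] at h1
  exact h1

theorem formallySmooth_sec [Smooth x] {U : X.Opens} (hU : IsAffineOpen U) :
    Algebra.FormallySmooth k (Sec x U) := by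
  have h1 : (x.appLE ⊤ U le_top).hom.Smooth :=
    HasRingHomProperty.appLE (P := @Smooth) x ‹_› ⟨⊤, isAffineOpen_top _⟩ ⟨U, hU⟩ le_top
  have h2 : (strO x U).Smooth := by
    change ((x.appLE ⊤ U le_top).hom.comp (Scheme.ΓSpecIso (CommRingCat.of k)).inv.hom).Smooth
    exact RingHom.Smooth.comp (RingHom.Smooth.of_bijective
      (ConcreteCategory.bijective_of_isIso (Scheme.ΓSpecIso (CommRingCat.of k)).inv)) h1
  exact (h2 : Algebra.Smooth k (Sec x U)).formallySmooth

variable {x}

/-- Homomorphisms out of the sections over the affines below an affine lift compatibly along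
nilpotent surjections. -/
theorem exists_lifts [Smooth x] (U : Aff X) (A A₀ : Aff X → Type u) [∀ W, CommRing (A W)]
    [∀ W, CommRing (A₀ W)] (res : ∀ {V W : Aff X}, V ≤ W → (A W →+* A V))
    (res₀ : ∀ {V W : Aff X}, V ≤ W → (A₀ W →+* A₀ V))
    (res_res : ∀ {V₁ V₂ V₃ : Aff X} (h₁ : V₁ ≤ V₂) (h₂ : V₂ ≤ V₃) (a : A V₃),
      res h₁ (res h₂ a) = res (h₁.trans h₂) a)
    (π : ∀ W, A W →+* A₀ W)
    (hπ : ∀ {V W : Aff X} (h : V ≤ W) (a : A W), π V (res h a) = res₀ h (π W a))
    (hs : ∀ W, W ≤ U → Function.Surjective (π W)) (hn : ∀ W, W ≤ U → IsNilpotent (RingHom.ker (π W)))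
    (c : ∀ W, k →+* A W) (hc : ∀ {V W : Aff X} (h : V ≤ W) (t : k), res h (c W t) = c V t)
    (φ : ∀ W, W ≤ U → (Sec x W.1 →+* A₀ W))
    (hφ : ∀ {V W : Aff X} (h : V ≤ W) (hW : W ≤ U) (b : Sec x W.1),
      φ V (h.trans hW) (resS x h b) = res₀ h (φ W hW b))
    (hcφ : ∀ W (hW : W ≤ U) (t : k), φ W hW (algebraMap k _ t) = π W (c W t)) :
    ∃ σ : ∀ W, W ≤ U → (Sec x W.1 →+* A W),
      (∀ W hW b, π W (σ W hW b) = φ W hW b) ∧ (∀ W hW t, σ W hW (algebraMap k _ t) = c W t) ∧
      ∀ {V W : Aff X} (h : V ≤ W) (hW : W ≤ U) (b : Sec x W.1),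
        σ V (h.trans hW) (resS x h b) = res h (σ W hW b) := by
  haveI := formallySmooth_sec x U.2
  obtain ⟨σU, hσU, hσc⟩ : ∃ σU : Sec x U.1 →+* A U,
      (∀ b, π U (σU b) = φ U le_rfl b) ∧ ∀ t, σU (algebraMap k _ t) = c U t := by
    letI : Algebra k (A U) := (c U).toAlgebra
    letI : Algebra k (A₀ U) := ((π U).comp (c U)).toAlgebra
    let q : A U →ₐ[k] A₀ U := { π U with commutes' := fun _ => rfl }
    let f : Sec x U.1 →ₐ[k] A₀ U := { φ U le_rfl with commutes' := hcφ U le_rfl }
    exact ⟨(Algebra.FormallySmooth.liftOfSurjective f q (hs U le_rfl) (hn U le_rfl)).toRingHom,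
      fun b => DFunLike.congr_fun
        (Algebra.FormallySmooth.comp_liftOfSurjective f q (hs U le_rfl) (hn U le_rfl)) b,
      (Algebra.FormallySmooth.liftOfSurjective f q (hs U le_rfl) (hn U le_rfl)).commutes⟩
  have hfe : ∀ W : Aff X, ∀ hW : W ≤ U, (resS x hW).toRingHom.FormallyEtale := fun W hW =>
    (etale_resS x U.2 W.2 hW).formallyEtale
  have ex : ∀ (W : Aff X) (hW : W ≤ U), ∃ σ : Sec x W.1 →+* A W,
      (∀ b, π W (σ b) = φ W hW b) ∧ ∀ b, σ (resS x hW b) = res hW (σU b) := fun W hW => by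
    letI : Algebra (Sec x U.1) (Sec x W.1) := (resS x hW).toRingHom.toAlgebra
    haveI : Algebra.FormallyEtale (Sec x U.1) (Sec x W.1) := hfe W hW
    letI : Algebra (Sec x U.1) (A W) := ((res hW).comp σU).toAlgebra
    letI : Algebra (Sec x U.1) (A₀ W) := ((π W).comp ((res hW).comp σU)).toAlgebra
    let q : A W →ₐ[Sec x U.1] A₀ W := { π W with commutes' := fun _ => rfl }
    let f : Sec x W.1 →ₐ[Sec x U.1] A₀ W :=
      { φ W hW with
        commutes' := fun b => by
          change φ W hW (resS x hW b) = π W (res hW (σU b))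
          rw [hπ, hσU, ← hφ] }
    exact ⟨(Algebra.FormallySmooth.liftOfSurjective f q (hs W hW) (hn W hW)).toRingHom,
      fun b => DFunLike.congr_fun
        (Algebra.FormallySmooth.comp_liftOfSurjective f q (hs W hW) (hn W hW)) b,
      (Algebra.FormallySmooth.liftOfSurjective f q (hs W hW) (hn W hW)).commutes⟩
  choose σ hσ hσr using ex
  refine ⟨σ, hσ, fun W hW t => ?_, fun {V W} h hW b => ?_⟩
  · rw [← (resS x hW).commutes t, hσr, hσc, hc]
  · have hV : V ≤ U := h.trans hW
    letI : Algebra (Sec x U.1) (Sec x W.1) := (resS x hW).toRingHom.toAlgebra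
    haveI : Algebra.FormallyEtale (Sec x U.1) (Sec x W.1) := hfe W hW
    letI : Algebra (Sec x U.1) (A V) := ((res hV).comp σU).toAlgebra
    let g₁ : Sec x W.1 →ₐ[Sec x U.1] A V :=
      { (σ V hV).comp (resS x h).toRingHom with
        commutes' := fun a => by
          change σ V hV (resS x h (resS x hW a)) = res hV (σU a)
          rw [resS_resS, hσr] }
    let g₂ : Sec x W.1 →ₐ[Sec x U.1] A V :=
      { (res h).comp (σ W hW) with
        commutes' := fun a => by
          change res h (σ W hW (resS x hW a)) = res hV (σU a)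
          rw [hσr, res_res] }
    refine DFunLike.congr_fun (Algebra.FormallyUnramified.ext' (R := Sec x U.1) (π V) (hn V hV) g₁ g₂
      fun b => ?_) b
    change π V (σ V hV (resS x h b)) = π V (res h (σ W hW b))
    rw [hσ, hπ, hσ, hφ]

end Groth.Agent.H9DefObs
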