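import Groth.Agent.H9DefObs.Cov
import Groth.Agent.H9DefExt.Fam
import Groth.Agent.DefGlueLib.SqExt
import Groth.Agent.BlendLib.Basic
import Mathlib.AlgebraicGeometry.Morphisms.QuasiSeparated

/-! Extensions of the differentials by direct images from affine opens split. -/

set_option autoImplicit false
set_option linter.style.haveILetI false
set_option backward.isDefEq.respectTransparency false
set_option backward.isDefEq.respectTransparency.types false

universe u

open CategoryTheory CategoryTheory.Limits AlgebraicGeometry TopologicalSpace Opposite ArtFun TrivSqZeroExt Abelian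
open Scheme (AffineZariskiSite)

noncomputable section

namespace Groth.Agent.H9DefObs

open Groth.Agent.DefGlueLib

attribute [local instance 10] SqExt.opModule SqExt.opCentral
attribute [local instance] Abelian.hasFiniteBiproducts

variable {k : Type u} [Field k] {X : Scheme.{u}} (x : X ⟶ Art.specPt k) [QuasiSeparated x]

/-- The differential over an open. -/
abbrev dO (W : X.Opens) : Γ(X, W) →+ Γ(Omega.sheaf x, W) := (OmegaSh.dOmega x).d (X := op W)

theorem dO_mul (W : X.Opens) (s t : Γ(X, W)) : dO x W (s * t) = s • dO x W t + t • dO x W s :=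
  (OmegaSh.dOmega x).d_mul (X := op W) s t

theorem dO_map {U V : X.Opens} (h : V ≤ U) (s : Γ(X, U)) :
    dO x V (X.presheaf.map (homOfLE h).op s) = resM (Omega.sheaf x) h (dO x U s) :=
  (OmegaSh.dOmega x).d_map (homOfLE h).op s

theorem dO_str (W : X.Opens) (t : k) : dO x W (strO x W t) = 0 := by
  have h1 := (OmegaSh.dOmega x).d_map (homOfLE (le_top : W ≤ x ⁻¹ᵁ ⊤)).op
    (x.app ⊤ ((Scheme.ΓSpecIso (CommRingCat.of k)).inv t))
  erw [(OmegaSh.dOmega x).d_app (X := op ⊤), map_zero] at h1
  exact h1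

variable {x}

theorem resM_smul (F : X.Modules) {U V : X.Opens} (h : V ≤ U) (r : Γ(X, U)) (s : Γ(F, U)) :
    resM F h (r • s) = X.presheaf.map (homOfLE h).op r • resM F h s :=
  Scheme.Modules.map_smul ..

theorem app_smulM {F G : X.Modules} (φ : F ⟶ G) (W : X.Opens) (r : Γ(X, W)) (v : Γ(F, W)) :
    φ.app W (r • v) = r • φ.app W v := Scheme.Modules.Hom.app_smul ..

variable {Z : X.Modules} (g : Z ⟶ Omega.sheaf x)

/-- Sections, as functions. -/
abbrev toΓ {W : X.Opens} (a : Sec x W) : Γ(X, W) := a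

/-- The pairs `(a, v)` with `g v = d a`. -/
def derRing (W : X.Opens) : Subring (TrivSqZeroExt Γ(X, W) Γ(Z, W)) where
  carrier := {z | g.app W (snd z) = dO x W (fst z)}
  mul_mem' := fun {z w} hz hw => by
    change g.app W (snd z) = dO x W (fst z) at hz
    change g.app W (snd w) = dO x W (fst w) at hw
    change g.app W (snd (z * w)) = dO x W (fst (z * w))
    rw [snd_mul, fst_mul, op_smul_eq_smul, map_add, app_smulM, app_smulM, hz, hw, dO_mul]
  one_mem' := by
    change g.app W (snd (1 : TrivSqZeroExt Γ(X, W) Γ(Z, W))) = dO x W (fst 1)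
    rw [snd_one, fst_one, map_zero]
    exact ((OmegaSh.dOmega x).d_one (X := op W)).symm
  add_mem' := fun {z w} hz hw => by
    change g.app W (snd z) = dO x W (fst z) at hz
    change g.app W (snd w) = dO x W (fst w) at hw
    change g.app W (snd (z + w)) = dO x W (fst (z + w))
    rw [snd_add, fst_add, map_add, hz, hw, map_add]
  zero_mem' := by
    change g.app W (snd 0) = dO x W (fst 0)
    rw [snd_zero, fst_zero, map_zero, map_zero]
  neg_mem' := fun {z} hz => by
    change g.app W (snd z) = dO x W (fst z) at hz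
    change g.app W (snd (-z)) = dO x W (fst (-z))
    rw [snd_neg, fst_neg, map_neg, hz, map_neg]

theorem derRing_ext {W : X.Opens} {z w : derRing g W} (h₁ : fst z.1 = fst w.1) (h₂ : snd z.1 = snd w.1) :
    z = w := Subtype.ext (TrivSqZeroExt.ext h₁ h₂)

/-- Restriction. -/
def derRes {U V : X.Opens} (h : V ≤ U) : derRing g U →+* derRing g V where
  toFun z := ⟨(inl (X.presheaf.map (homOfLE h).op (fst z.1)) + inr (resM Z h (snd z.1)) :
      TrivSqZeroExt Γ(X, V) Γ(Z, V)), by
    change g.app V (snd (inl _ + inr _)) = dO x V (fst (inl _ + inr _))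
    rw [snd_add, fst_add, snd_inl, snd_inr, fst_inl, fst_inr, zero_add, add_zero, ← resM_app, dO_map]
    exact congrArg _ z.2⟩
  map_one' := derRing_ext g (by simp) (by simp)
  map_mul' z w := derRing_ext g (by simp) (by simp [op_smul_eq_smul])
  map_zero' := derRing_ext g (by simp) (by simp)
  map_add' z w := derRing_ext g (by simp) (by simp)

theorem fst_derRes {U V : X.Opens} (h : V ≤ U) (z : derRing g U) :
    fst (derRes g h z).1 = X.presheaf.map (homOfLE h).op (fst z.1) := by simp [derRes]

theorem snd_derRes {U V : X.Opens} (h : V ≤ U) (z : derRing g U) :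
    snd (derRes g h z).1 = resM Z h (snd z.1) := by simp [derRes]

/-- A section of a surjection onto the differentials over the affines below an affine, on exact forms. -/
theorem exists_local_der [Smooth x] (U : Aff X) (hs : ∀ W : Aff X, W ≤ U → Function.Surjective (g.app W.1)) :
    ∃ D : ∀ W : Aff X, W ≤ U → (Sec x W.1 → Γ(Z, W.1)),
      (∀ W hW b, g.app W.1 (D W hW b) = dO x W.1 b) ∧
      (∀ W hW a b, D W hW (a + b) = D W hW a + D W hW b) ∧
      (∀ (W : Aff X) (hW : W ≤ U) (a b : Sec x W.1), D W hW (a * b) = toΓ a • D W hW b + toΓ b • D W hW a) ∧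
      (∀ W hW t, D W hW (strO x W.1 t) = 0) ∧
      ∀ {V W : Aff X} (h : V ≤ W) (hW : W ≤ U) (b : Sec x W.1),
        D V (h.trans hW) (resS x h b) = resM Z h (D W hW b) := by
  let π : ∀ W : Aff X, derRing g W.1 →+* Sec x W.1 := fun W =>
    ((fstHom Γ(X, W.1) Γ(X, W.1) Γ(Z, W.1)).toRingHom).comp (derRing g W.1).subtype
  let c : ∀ W : Aff X, k →+* derRing g W.1 := fun W =>
    ((inlHom Γ(X, W.1) Γ(Z, W.1)).comp (strO x W.1)).codRestrict _ fun t => by
      change g.app W.1 (snd (inl (strO x W.1 t) : TrivSqZeroExt Γ(X, W.1) Γ(Z, W.1))) = dO x W.1 (fst (inl (strO x W.1 t) : TrivSqZeroExt Γ(X, W.1) Γ(Z, W.1)))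
      rw [snd_inl, fst_inl, map_zero, dO_str]
  obtain ⟨σ, hσ, hσc, hσr⟩ := exists_lifts U (fun W => derRing g W.1) (fun W => Sec x W.1)
    (fun {V W} h => derRes g h) (fun {V W} h => (resS x h).toRingHom)
    (fun {V₁ V₂ V₃} h₁ h₂ a => derRing_ext g
      (by rw [fst_derRes, fst_derRes, fst_derRes]; exact H9DefAut.res_res _ _ _)
      (by rw [snd_derRes, snd_derRes, snd_derRes, resM_trans]))
    π (fun {V W} h a => fst_derRes g h a)
    (fun W hW b => by
      obtain ⟨v, hv⟩ := hs W hW (dO x W.1 b)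
      refine ⟨⟨(inl b + inr v : TrivSqZeroExt Γ(X, W.1) Γ(Z, W.1)), ?_⟩, ?_⟩
      · change g.app W.1 (snd (inl b + inr v : TrivSqZeroExt Γ(X, W.1) Γ(Z, W.1))) = dO x W.1 (fst (inl b + inr v : TrivSqZeroExt Γ(X, W.1) Γ(Z, W.1)))
        rw [snd_add, fst_add, snd_inl, snd_inr, fst_inl, fst_inr, zero_add, add_zero]
        exact hv
      · change fst (inl b + inr v : TrivSqZeroExt Γ(X, W.1) Γ(Z, W.1)) = b
        rw [fst_add, fst_inl, fst_inr, add_zero])
    (fun W hW => ⟨2, le_bot_iff.1 (by
      rw [pow_two, Ideal.mul_le]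
      intro a ha b hb
      have ha' : fst a.1 = 0 := ha
      have hb' : fst b.1 = 0 := hb
      exact Ideal.mem_bot.2 (derRing_ext g (by simp [ha', hb']) (by simp [ha', hb', op_smul_eq_smul])))⟩)
    c (fun {V W} h t => derRing_ext g
      ((fst_derRes g h _).trans ((resS x h).commutes t))
      ((snd_derRes g h _).trans (map_zero _)))
    (fun W _ => RingHom.id _) (fun {V W} h hW b => rfl) (fun W hW t => rfl)
  refine ⟨fun W hW b => snd (σ W hW b).1, fun W hW b => ?_, fun W hW a b => ?_, fun W hW a b => ?_,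
    fun W hW t => ?_, fun {V W} h hW b => ?_⟩
  · exact ((σ W hW b).2).trans (congrArg (dO x W.1) (hσ W hW b))
  · dsimp only
    rw [map_add]
    exact snd_add _ _
  · have ha : fst (σ W hW a).1 = a := hσ W hW a
    have hb : fst (σ W hW b).1 = b := hσ W hW b
    dsimp only
    rw [map_mul]
    refine (snd_mul _ _).trans ?_
    rw [op_smul_eq_smul, ha, hb]
  · exact congrArg (fun z : derRing g W.1 => snd z.1) (hσc W hW t)
  · dsimp only
    rw [hσr h hW b, snd_derRes]

variable [X.IsSeparated] [Smooth x] [HasExt.{u} X.Modules]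

theorem ext_push_eq_zero (V : Aff X) {F : X.Modules} (hF : Coh.IsQCoh F)
    (e : Ext.{u} (Omega.sheaf x) (push V.1 F) 1) : e = 0 := by
  obtain ⟨Z, f, g, w, hS, rfl⟩ := BlendLib.exists_extClass_eq e
  have hsurj : ∀ W : Aff X, Function.Surjective (g.app W.1) := fun W =>
    QCoh.app_surjective_of_shortExact hS (isQCoh_push V hF) W.2
  obtain ⟨D, hDg, hDadd, hDmul, hDstr, hDres⟩ := exists_local_der g V fun W _ => hsurj W
  have hfg : ∀ (W : X.Opens) (a : Γ(push V.1 F, W)), g.app W (f.app W a) = 0 := fun W a =>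
    QCoh.app_g_f (S := ShortComplex.mk f g w) W a
  have hfinj : ∀ W : X.Opens, Function.Injective (f.app W) := QCoh.app_f_injective hS
  have key : ∀ (W : Aff X) (s : Γ(X, W.1)), ∃! z : Γ(Z, W.1), g.app W.1 z = dO x W.1 s ∧
      resM Z (cut_le_right V.1 W.1) z = D (cutA V W) (cutA_le_left V W) (resS x (cut_le_right V.1 W.1) s) := by
    intro W s
    obtain ⟨z₀, hz₀⟩ := hsurj W (dO x W.1 s)
    let d : Γ(Z, cut V.1 W.1) := D (cutA V W) (cutA_le_left V W) (resS x (cut_le_right V.1 W.1) s)
    obtain ⟨η', hη'⟩ := QCoh.exists_app_f_eq hS (cut V.1 W.1) (d - resM Z (cut_le_right V.1 W.1) z₀) (by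
        change g.app (cut V.1 W.1) _ = 0
        rw [map_sub]
        refine sub_eq_zero.2 ((hDg (cutA V W) (cutA_le_left V W) _).trans ?_)
        rw [← resM_app, hz₀]
        exact dO_map x _ s)
    have hb : ∀ a : Γ(push V.1 F, W.1),
        pushEquiv V.1 F _ (resM (push V.1 F) (cut_le_right V.1 W.1) a) =
          resM F (cut_mono V.1 (cut_le_right V.1 W.1)) (pushEquiv V.1 F W.1 a) := fun a => pushEquiv_res _ _ _ a
    have e1 : cut V.1 W.1 ≤ cut V.1 (cut V.1 W.1) := le_cut (cut_le_left _ _) le_rfl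
    let a : Γ(push V.1 F, W.1) := (pushEquiv V.1 F W.1).symm (resM F e1 (pushEquiv V.1 F _ η'))
    have ha : resM (push V.1 F) (cut_le_right V.1 W.1) a = η' := (pushEquiv V.1 F _).injective (by
      rw [hb, show pushEquiv V.1 F W.1 a = resM F e1 (pushEquiv V.1 F _ η') from AddEquiv.apply_symm_apply _ _,
        resM_trans, resM_self])
    refine ⟨z₀ + f.app W.1 a, ⟨?_, ?_⟩, fun z hz => ?_⟩
    · rw [map_add, hfg, add_zero, hz₀]
    · rw [map_add, resM_app, ha]
      change _ + f.app (cut V.1 W.1) η' = _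
      rw [hη', add_sub_cancel]
    · obtain ⟨a', ha'⟩ := QCoh.exists_app_f_eq hS W.1 (z - z₀) (by
        change g.app W.1 _ = 0
        rw [map_sub, hz.1, hz₀, sub_self])
      change f.app W.1 a' = z - z₀ at ha'
      have h2 : resM (push V.1 F) (cut_le_right V.1 W.1) a' = η' := hfinj _ (by
        change f.app _ (resM (push V.1 F) _ a') = f.app _ η'
        rw [← resM_app, ha', map_sub, hz.2]
        exact hη'.symm)
      have h3 : a' = a := (pushEquiv V.1 F W.1).injective (by
        have h4 := hb a'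
        rw [h2] at h4
        rw [show pushEquiv V.1 F W.1 a = resM F e1 (pushEquiv V.1 F _ η') from AddEquiv.apply_symm_apply _ _, h4,
          resM_trans, resM_self])
      rw [← h3, ha', add_sub_cancel]
  choose E hE hEu using fun W s => (key W s)
  let toA : AffineZariskiSite X → Aff X := fun U => ⟨U.toOpens, U.2⟩
  let M : H9DefExt.ModFam x Z :=
    { D := fun U s => E (toA U) s
      add := fun U s t => (hEu (toA U) _ _ ⟨by rw [map_add, (hE _ _).1, (hE _ _).1, map_add], by
        rw [map_add, (hE _ _).2, (hE _ _).2, ← hDadd]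
        exact congrArg _ (map_add (resS x (cut_le_right V.1 (toA U).1)) s t).symm⟩).symm
      map := fun {U U'} h s => by
        have h' : toA U' ≤ toA U := AffineZariskiSite.toOpens_mono h
        refine (hEu (toA U') _ _ ⟨?_, ?_⟩).symm
        · exact (resM_app g h' _).symm.trans ((congrArg (resM (Omega.sheaf x) h') (hE (toA U) s).1).trans
            (dO_map x h' s).symm)
        · refine (resM_trans Z h' (cut_le_right V.1 (toA U').1) (E (toA U) s)).trans
            ((resM_trans Z (cut_le_right V.1 (toA U).1) (cutA_mono V h') (E (toA U) s)).symm.trans ?_)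
          refine (congrArg (resM Z (cutA_mono V h')) (hE (toA U) s).2).trans
            ((hDres (cutA_mono V h') (cutA_le_left V (toA U)) _).symm.trans (congrArg _ ?_))
          exact (resS_resS x (cut_le_right V.1 (toA U).1) (cutA_mono V h') s).trans
            (resS_resS x h' (cut_le_right V.1 (toA U').1) s).symm
      mul := fun U s t => (hEu (toA U) _ _ ⟨by
          rw [map_add, app_smulM, app_smulM, (hE _ _).1, (hE _ _).1, ← dO_mul], by
        rw [map_add, resM_smul, resM_smul, (hE _ _).2, (hE _ _).2]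
        exact (hDmul (cutA V (toA U)) (cutA_le_left V (toA U)) _ _).symm.trans
          (congrArg _ (map_mul (resS x (cut_le_right V.1 (toA U).1)) s t).symm)⟩).symm
      str := fun U c => (hEu (toA U) _ _ ⟨by rw [map_zero]; exact (dO_str x _ c).symm, by
        rw [map_zero]
        refine (hDstr _ (cutA_le_left V (toA U)) c).symm.trans (congrArg _ ?_)
        exact ((resS x (cut_le_right V.1 (toA U).1)).commutes c).symm⟩).symm }
  obtain ⟨θ, hθ⟩ := M.exists_hom
  have hid : θ ≫ g = 𝟙 _ := H9DefExt.omega_hom_ext x fun U s => by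
    change g.app U.toOpens (θ.app U.toOpens _) = _
    rw [hθ]
    exact (hE (toA U) s).1
  have h2 := Ext.mk₀_id_comp hS.extClass
  rw [← hid, ← Ext.mk₀_comp_mk₀, Ext.comp_assoc_of_second_deg_zero, hS.comp_extClass, Ext.comp_zero] at h2
  exact h2.symm

theorem ext_cov_eq_zero (𝒰 : FinCover X) {F : X.Modules} (hF : Coh.IsQCoh F)
    (e : Ext.{u} (Omega.sheaf x) (cov 𝒰 F) 1) : e = 0 := by
  classical
  have h : e = e.comp (Ext.mk₀ (𝟙 (cov 𝒰 F))) (add_zero 1) := (Ext.comp_mk₀_id e).symm
  rw [h, show 𝟙 (cov 𝒰 F) = ∑ i, biproduct.π (fun i => push (𝒰.U i).1 F) i ≫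
    biproduct.ι (fun i => push (𝒰.U i).1 F) i from (QCoh.biproduct_total' _).symm, Ext.mk₀_sum, Ext.comp_sum]
  refine Finset.sum_eq_zero fun i _ => ?_
  rw [← Ext.mk₀_comp_mk₀, ← Ext.comp_assoc_of_second_deg_zero, ext_push_eq_zero (𝒰.U i) hF (e.comp _ _),
    Ext.zero_comp]

end Groth.Agent.H9DefObs
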