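import Groth.Agent.H9DefObs.Theta
import Groth.Agent.H9DefObs.Vanish
import Groth.Agent.H9DefExt.Psi

/-! The obstruction classes in `Ext²(Ω, O)`. -/

set_option autoImplicit false
set_option linter.style.haveILetI false
set_option backward.isDefEq.respectTransparency false
set_option backward.isDefEq.respectTransparency.types false

universe u

open CategoryTheory CategoryTheory.Limits AlgebraicGeometry TopologicalSpace Opposite ArtFun Abelian
open Scheme (AffineZariskiSite)

noncomputable section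

namespace Groth.Agent.H9DefObs

open Groth.Agent.DefGlueLib

variable {k : Type u} [Field k] {X : Scheme.{u}} [X.IsSeparated] [X.Over (Spec (CommRingCat.of k))]
variable [QuasiSeparated (X ↘ Spec (CommRingCat.of k))] [HasExt.{u} X.Modules]
variable {C C' : Art k k} {ξ : DefSch X (X ↘ Spec (CommRingCat.of k)) C} {L : Loc ξ} {p : C' ⟶ C}
variable (hp : Art.IsSemismallExt p) (T : Sec2 L p)

theorem theta_smul (r : k) (l : C' →ₗ[k] k) : theta hp T (r • l) = r • theta hp T l := by
  refine H9DefExt.omega_hom_ext (X ↘ Spec (CommRingCat.of k)) fun U b => ?_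
  rw [theta_app, KLin.smul_app_apply, theta_app, ← H9DefExt.str_eq]
  obtain ⟨z, hz⟩ := upq_surjective (L := L) hp.1 (toAff U) b
  rw [dfun_eq hp T _ hz, dfun_eq hp T l hz]
  refine (congrArg _ ?_).trans (Scheme.Modules.Hom.app_smul (cokernel.π (toCov L.𝒰 (Q1 L)))
    (show Γ(X, U.toOpens) from str (X ↘ Spec (CommRingCat.of k)) U r) (chiCov hp.1 (toAff U) l (T.diff _ b z)))
  refine covGet_ext L.𝒰 fun j => ?_
  erw [covGet_smul]
  rw [covGet_chiCov, covGet_chiCov, chi_l_smul hp r l (T.upq_diff hz j)]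
  refine congrArg (· • _) ?_
  exact ((resS (X ↘ Spec (CommRingCat.of k)) (cutA_le_right (L.𝒰.U j) (toAff U))).commutes r).symm

variable (L) in
/-- The connecting class of the functions on the cover. -/
def δO : Ext.{u} (Q1 L) (Coh.structureModule X) 1 := (shortExact_covSeq L.𝒰 (Coh.structureModule X)).extClass

variable (L) in
/-- The connecting class of the first quotient. -/
def δQ : Ext.{u} (Q2 L) (Q1 L) 1 := (shortExact_covSeq L.𝒰 (Q1 L)).extClass

/-- The obstruction of a functional. -/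
def ob : (C' →ₗ[k] k) →ₗ[k] Ext.{u} (Omega.sheaf (X ↘ Spec (CommRingCat.of k))) (Coh.structureModule X) 2 where
  toFun l := ((Ext.mk₀ (theta hp T l)).comp (δQ L) (zero_add 1)).comp (δO L) rfl
  map_add' l l' := by rw [theta_add, Ext.mk₀_add, Ext.add_comp, Ext.add_comp]
  map_smul' r l := by rw [theta_smul, Ext.mk₀_smul, Ext.smul_comp, Ext.smul_comp]; rfl

theorem ob_apply (l : C' →ₗ[k] k) :
    ob hp T l = ((Ext.mk₀ (theta hp T l)).comp (δQ L) (zero_add 1)).comp (δO L) rfl := rfl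

theorem ob_congr {l l' : C' →ₗ[k] k} (h : ∀ c ∈ RingHom.ker p.toAlgHom, l c = l' c) :
    ob hp T l = ob hp T l' := by
  rw [ob_apply, ob_apply, theta_congr hp T l h]

theorem π_comp_δQ :
    (Ext.mk₀ (cokernel.π (toCov L.𝒰 (Q1 L)))).comp (δQ L) (zero_add 1) = 0 :=
  (shortExact_covSeq L.𝒰 (Q1 L)).comp_extClass

theorem ob_eq (T' : Sec2 L p) : ob hp T' = ob hp T := by
  refine LinearMap.ext fun l => ?_
  obtain ⟨η, hη⟩ := exists_theta_eq hp T l T'
  rw [ob_apply, ob_apply, hη, Ext.mk₀_add, ← Ext.mk₀_comp_mk₀, Ext.add_comp,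
    Ext.comp_assoc_of_second_deg_zero, π_comp_δQ, Ext.comp_zero, add_zero]

variable [Smooth (X ↘ Spec (CommRingCat.of k))]

/-- The obstruction vanishes exactly when the cocycle is a coboundary. -/
theorem ob_eq_zero_iff (l : C' →ₗ[k] k) :
    ob hp T l = 0 ↔ ∃ η : Omega.sheaf (X ↘ Spec (CommRingCat.of k)) ⟶ cov L.𝒰 (Q1 L),
      η ≫ cokernel.π (toCov L.𝒰 (Q1 L)) = theta hp T l := by
  constructor
  · intro h
    rw [ob_apply] at h
    obtain ⟨y, hy⟩ := Ext.covariant_sequence_exact₃ _ (shortExact_covSeq L.𝒰 (Coh.structureModule X)) _ rfl h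
    have h' : (Ext.mk₀ (theta hp T l)).comp (δQ L) (zero_add 1) = 0 := by
      rw [← hy, ext_cov_eq_zero L.𝒰 QCoh.isQCoh_structureModule y, Ext.zero_comp]
    obtain ⟨z, hz⟩ := Ext.covariant_sequence_exact₃ _ (shortExact_covSeq L.𝒰 (Q1 L)) _ (zero_add 1) h'
    obtain ⟨η, rfl⟩ := (Ext.mk₀_bijective _ _).2 z
    exact ⟨η, (Ext.mk₀_bijective _ _).1 ((Ext.mk₀_comp_mk₀ _ _).symm.trans hz)⟩
  · rintro ⟨η, hη⟩
    rw [ob_apply, ← hη, ← Ext.mk₀_comp_mk₀, Ext.comp_assoc_of_second_deg_zero, π_comp_δQ, Ext.comp_zero,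
      Ext.zero_comp]

end Groth.Agent.H9DefObs
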