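import Groth.Agent.H9DefObs.Cls

/-! A lift kills the obstruction. -/

set_option autoImplicit false
set_option linter.style.haveILetI false
set_option backward.isDefEq.respectTransparency false
set_option backward.isDefEq.respectTransparency.types false

universe u

open CategoryTheory CategoryTheory.Limits AlgebraicGeometry TopologicalSpace Opposite ArtFun
open Scheme (AffineZariskiSite)
open scoped TensorProduct

noncomputable section

namespace Groth.Agent.H9DefObs

open Groth.Agent.DefGlueLib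

attribute [local instance] Abelian.hasFiniteBiproducts

variable {k : Type u} [Field k] {X : Scheme.{u}} {x : X ⟶ Art.specPt k}
variable {C C' : Art k k} {ξ : DefSch X x C} {ξ' : DefSch X x C'} {p : C' ⟶ C} (Φ : Ov p ξ' ξ)

theorem imOpen_le_preimage (V : X.Opens) : imOpen ξ V ≤ Φ.hom ⁻¹ᵁ imOpen ξ' V := by
  rintro _ ⟨q, hq, rfl⟩
  exact ⟨q, hq, (congrArg (fun f : X ⟶ ξ'.total => f q) Φ.i_hom).symm⟩

/-- The map on sections of a morphism of deformations. -/
def mapD (V : X.Opens) : DSec ξ' V →+* DSec ξ V :=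
  (Φ.hom.appLE (imOpen ξ' V) (imOpen ξ V) (imOpen_le_preimage Φ V)).hom

theorem mapD_secD (V : X.Opens) (c : C') : mapD Φ V (secD ξ' V c) = secD ξ V (p c) := Φ.secA_comm _ c

theorem qD_mapD (V : X.Opens) (r : DSec ξ' V) : qD ξ V (mapD Φ V r) = qD ξ' V r := by
  refine DFunLike.congr_fun (f := (qD ξ V).comp (mapD Φ V)) ?_ r
  rw [qD, mapD, ← CommRingCat.hom_comp, Scheme.Hom.appLE_comp_appLE]
  simp only [Φ.i_hom]
  rfl

theorem mapD_resD {U V : X.Opens} (h : V ≤ U) (r : DSec ξ' U) :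
    mapD Φ V (resD ξ' h r) = resD ξ h (mapD Φ U r) :=
  ConcreteCategory.congr_hom ((Scheme.Hom.map_appLE Φ.hom _ _).trans (Scheme.Hom.appLE_map Φ.hom _ _).symm) r

theorem mapD_surjective (hp : Function.Surjective p) (V : Aff X) : Function.Surjective (mapD Φ V.1) :=
  (((isDefD ξ' V).map_ker (isDefD ξ V) p (mapD Φ V.1) (mapD_secD Φ V.1) (qD_mapD Φ V.1)).2 hp).1

variable [X.IsSeparated] [Smooth x]

theorem exists_splitLift (hp : Function.Surjective p) {U : Aff X} (S : Split ξ U) :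
    ∃ S' : Split ξ' U, ∀ V h b, mapD Φ V.1 (S'.s V h b) = S.s V h b := by
  obtain ⟨σ, hσ, hσc, hσr⟩ := exists_lifts U (fun W => DSec ξ' W.1) (fun W => DSec ξ W.1)
    (fun {V W} h => resD ξ' h) (fun {V W} h => resD ξ h) (fun h₁ h₂ a => resD_resD ξ' _ _ _)
    (fun W => mapD Φ W.1) (fun h a => mapD_resD Φ h a) (fun W _ => mapD_surjective Φ hp W)
    (fun W _ => by
      obtain ⟨m, hm⟩ := isNilpotent_ker_qD ξ' W
      refine ⟨m, le_bot_iff.1 ((Ideal.pow_right_mono (fun a ha => ?_) m).trans hm.le)⟩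
      rw [RingHom.mem_ker, ← qD_mapD Φ, RingHom.mem_ker.1 ha, map_zero])
    (fun W => (secD ξ' W.1).comp (algebraMap k C')) (fun h t => resD_secD ξ' h _)
    (fun W h => (S.s W h).toRingHom) (fun h hW b => S.res h hW b)
    (fun W hW t => ((S.s W hW).commutes t).trans ((congrArg (secD ξ W.1)
      (p.toAlgHom.commutes t)).symm.trans (mapD_secD Φ W.1 _).symm))
  exact ⟨{ s := fun V h => { σ V h with commutes' := hσc V h }
           q := fun V h b => (qD_mapD Φ V.1 _).symm.trans ((congrArg (qD ξ V.1) (hσ V h b)).trans (S.q V h b))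
           res := fun h hW b => hσr h hW b }, fun V h b => hσ V h b⟩

theorem mapD_tmap {U : Aff X} {S : Split ξ U} {S' : Split ξ' U}
    (hS : ∀ V h b, mapD Φ V.1 (S'.s V h b) = S.s V h b) (V : Aff X) (h : V ≤ U) (t : TSec x C' V.1) :
    mapD Φ V.1 (S'.tmap V h t) = S.tmap V h (mapT p V.1 t) := by
  induction t using TensorProduct.induction_on with
  | zero => simp
  | tmul c b => rw [S'.tmap_tmul, map_mul, mapD_secD, hS, mapT_tmul, S.tmap_tmul]
  | add a b ha hb => rw [map_add, map_add, map_add, map_add, ha, hb]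

variable {L : Loc ξ} (S' : ∀ i, Split ξ' (L.𝒰.U i))
  (hS : ∀ i V h b, mapD Φ V.1 ((S' i).s V h b) = (L.S i).s V h b)

/-- The inverse trivialization. -/
def tinv (W : Aff X) (i : L.𝒰.ι) : DSec ξ' (L.cV i W).1 →+* TSec x C' (L.cV i W).1 :=
  (RingEquiv.ofBijective _ ((S' i).tmap_bijective (L.cV i W) (cutA_le_left _ _))).symm.toRingHom

theorem tmap_tinv (W : Aff X) (i : L.𝒰.ι) (r : DSec ξ' (L.cV i W).1) :
    (S' i).tmap (L.cV i W) (cutA_le_left _ _) (tinv S' W i r) = r :=
  (RingEquiv.ofBijective _ ((S' i).tmap_bijective (L.cV i W) (cutA_le_left _ _))).apply_symm_apply r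

/-- A lift maps into the twisted ring. -/
def psi (W : Aff X) : DSec ξ' W.1 →+* Up L p W :=
  ((mapD Φ W.1).prod (RingHom.pi fun i => (tinv S' W i).comp (resD ξ' (cutA_le_right (L.𝒰.U i) W)))).codRestrict _
    fun r => mem_up.2 fun i => by
      change (L.S i).tmap (L.cV i W) _ (mapT p _ (tinv S' W i (resD ξ' _ r))) = resD ξ _ (mapD Φ W.1 r)
      rw [← mapD_tmap Φ (hS i), tmap_tinv, mapD_resD]

theorem upπ_psi (W : Aff X) (r : DSec ξ' W.1) : upπ L p W (psi Φ S' hS W r) = mapD Φ W.1 r := rfl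

theorem upT_psi (W : Aff X) (i : L.𝒰.ι) (r : DSec ξ' W.1) :
    upT L p W i (psi Φ S' hS W r) = tinv S' W i (resD ξ' (cutA_le_right (L.𝒰.U i) W) r) := rfl

theorem upq_psi (W : Aff X) (r : DSec ξ' W.1) : upq L p W (psi Φ S' hS W r) = qD ξ' W.1 r :=
  qD_mapD Φ W.1 r

theorem psi_secD (W : Aff X) (c : C') : psi Φ S' hS W (secD ξ' W.1 c) = upC L p W c := by
  refine up_ext ((upπ_psi Φ S' hS W _).trans (mapD_secD Φ W.1 c)) fun i => ?_
  refine ((S' i).tmap_bijective (L.cV i W) (cutA_le_left _ _)).1 ?_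
  rw [upT_psi, tmap_tinv, resD_secD, upT_C, (S' i).tmap_tmul, map_one, mul_one]

theorem psi_res {V W : Aff X} (h : V ≤ W) (r : DSec ξ' W.1) :
    psi Φ S' hS V (resD ξ' h r) = upRes L p h (psi Φ S' hS W r) := by
  refine up_ext ((upπ_psi Φ S' hS V _).trans (mapD_resD Φ h r)) fun i => ?_
  refine ((S' i).tmap_bijective (L.cV i V) (cutA_le_left _ _)).1 ?_
  rw [upT_psi, tmap_tinv, upT_res, upT_psi, resD_resD]
  refine Eq.trans ?_ ((S' i).tmap_resT (cutA_mono (L.𝒰.U i) h) (cutA_le_left (L.𝒰.U i) W) _).symm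
  rw [tmap_tinv, resD_resD]

theorem psi_mem (W : Aff X) {r : DSec ξ' W.1} (hr : qD ξ' W.1 r = 0) : psi Φ S' hS W r ∈ upM L p W := by
  refine (?_ : RingHom.ker (qD ξ' W.1) ≤ (upM L p W).comap (psi Φ S' hS W)) hr
  refine (ker_qD_le ξ' W).trans (Ideal.map_le_iff_le_comap.2 fun c hc => ?_)
  rw [Ideal.mem_comap, Ideal.mem_comap, psi_secD]
  exact Ideal.mem_map_of_mem _ hc

include Φ in
theorem exists_coboundary [QuasiSeparated x] (hp : Art.IsSemismallExt p) (T : Sec2 L p) (l : C' →ₗ[k] k) :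
    ∃ η : Omega.sheaf x ⟶ cov L.𝒰 (Q1 L), η ≫ cokernel.π (toCov L.𝒰 (Q1 L)) = theta hp T l := by
  choose S₁ hS₁ using fun i => exists_splitLift Φ hp.1 (L.S i)
  let ψ := psi Φ S₁ hS₁
  choose g hg using fun (W : Aff X) (b : Sec x W.1) => (isDefD ξ' W).surjective b
  have hz₀ : ∀ W b, upq L p W (ψ W (g W b)) = b := fun W b => (upq_psi Φ S₁ hS₁ W _).trans (hg W b)
  let f : ∀ W : Aff X, Sec x W.1 → Γ(cov L.𝒰 (Q1 L), W.1) := fun W b =>
    chiCov hp.1 W l (T.diff W b (ψ W (g W b)))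
  have hf : ∀ W b (r : DSec ξ' W.1), qD ξ' W.1 r = b → f W b = chiCov hp.1 W l (T.diff W b (ψ W r)) :=
    fun W b r hr => covGet_ext L.𝒰 fun j => by
      rw [covGet_chiCov, covGet_chiCov]
      refine chi_congr_mem hp l (T.upq_diff ((upq_psi Φ S₁ hS₁ W r).trans hr) j) ?_
      rw [Sec2.diff, Sec2.diff, sub_sub_sub_cancel_left, ← map_sub, ← map_sub]
      exact upM_res L p _ (psi_mem Φ S₁ hS₁ W (by rw [map_sub, hr, hg, sub_self]))
  let E : H9DefExt.ModFam x (cov L.𝒰 (Q1 L)) :=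
    { D := fun U b => f (toAff U) b
      add := fun U a b => by
        refine (hf _ _ (g (toAff U) a + g (toAff U) b)
          ((map_add _ _ _).trans (congrArg₂ (· + ·) (hg _ a) (hg _ b)))).trans ?_
        refine covGet_ext L.𝒰 fun j => ?_
        rw [map_add, map_add, covGet_chiCov, covGet_chiCov, covGet_chiCov]
        erw [chi_diff_add hp T l (hz₀ (toAff U) a) (hz₀ (toAff U) b) j]
      map := fun {U V} h b => by
        have h' : toAff V ≤ toAff U := AffineZariskiSite.toOpens_mono h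
        refine (hf _ _ (resD ξ' h' (g (toAff U) b)) ((qD_resD ξ' h' _).trans (congrArg _ (hg _ b)))).trans ?_
        refine covGet_ext L.𝒰 fun j => ?_
        erw [covGet_res L.𝒰 _ h' j (f (toAff U) b)]
        rw [covGet_chiCov, covGet_chiCov, psi_res]
        exact chi_diff_res hp T l h' (hz₀ (toAff U) b) j
      mul := fun U a b => by
        refine (hf _ _ (g (toAff U) a * g (toAff U) b)
          ((map_mul _ _ _).trans (congrArg₂ (· * ·) (hg _ a) (hg _ b)))).trans ?_
        refine covGet_ext L.𝒰 fun j => ?_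
        rw [map_add, map_mul, covGet_chiCov]
        erw [covGet_smul, covGet_smul]
        rw [covGet_chiCov, covGet_chiCov]
        exact chi_diff_mul hp T l (hz₀ (toAff U) a) (hz₀ (toAff U) b) j
      str := fun U t => by
        refine (hf _ _ (secD ξ' (toAff U).1 (algebraMap k C' t))
          ((qD_secD ξ' _ _).trans (congrArg _ (C'.res.commutes t)))).trans ?_
        refine covGet_ext L.𝒰 fun j => ?_
        rw [covGet_chiCov, map_zero, psi_secD]
        exact chi_diff_str hp T l t j }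
  obtain ⟨η, hη⟩ := E.exists_hom
  refine ⟨η, H9DefExt.omega_hom_ext x fun U b => ?_⟩
  change (cokernel.π (toCov L.𝒰 (Q1 L))).app U.toOpens (η.app U.toOpens _) = _
  rw [hη, theta_app]
  exact (dfun_eq hp T l (hz₀ (toAff U) b)).symm

end Groth.Agent.H9DefObs
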