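import Groth.Agent.H9DefObs.Aff
import Groth.Agent.QCoh.Extension
import Groth.Agent.QCoh.Qcqs
import Groth.Agent.QCoh.Tilde
import Groth.Agent.QCoh.DevissageIdeal
import Mathlib.AlgebraicGeometry.Morphisms.Separated

/-! The resolution of a module by its restrictions to the members of a finite affine cover. -/

set_option autoImplicit false
set_option linter.style.haveILetI false
set_option backward.isDefEq.respectTransparency false
set_option backward.isDefEq.respectTransparency.types false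

universe u

open CategoryTheory CategoryTheory.Limits AlgebraicGeometry TopologicalSpace Opposite

noncomputable section

namespace Groth.Agent.H9DefObs

attribute [local instance] Abelian.hasFiniteBiproducts

variable {X : Scheme.{u}}

/-- The part of `W` in `V`. -/
def cut (V W : X.Opens) : X.Opens := V.ι ''ᵁ (V.ι ⁻¹ᵁ W)

theorem cut_eq (V W : X.Opens) : cut V W = V ⊓ W := by
  rw [cut, Scheme.Hom.image_preimage_eq_opensRange_inf, Scheme.Opens.opensRange_ι]

theorem cut_le_right (V W : X.Opens) : cut V W ≤ W := Scheme.Hom.image_preimage_le _ _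

theorem cut_le_left (V W : X.Opens) : cut V W ≤ V := (cut_eq V W).le.trans inf_le_left

theorem cut_mono (V : X.Opens) {W W' : X.Opens} (h : W' ≤ W) : cut V W' ≤ cut V W :=
  Scheme.Hom.image_mono _ (Scheme.Hom.preimage_mono _ h)

theorem le_cut {U V W : X.Opens} (h : U ≤ V) (h' : U ≤ W) : U ≤ cut V W :=
  (le_inf h h').trans (cut_eq V W).ge

/-- The part of `W` in `V`, as an affine open. -/
abbrev cutA [X.IsSeparated] (V W : Aff X) : Aff X :=
  ⟨cut V.1 W.1, (cut_eq V.1 W.1).symm ▸ V.2.inf W.2⟩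

theorem cutA_le_left [X.IsSeparated] (V W : Aff X) : cutA V W ≤ V := cut_le_left _ _

theorem cutA_le_right [X.IsSeparated] (V W : Aff X) : cutA V W ≤ W := cut_le_right _ _

theorem cutA_mono [X.IsSeparated] (V : Aff X) {W W' : Aff X} (h : W' ≤ W) : cutA V W' ≤ cutA V W :=
  cut_mono _ h

/-- Restriction of sections of a module. -/
abbrev resM (F : X.Modules) {U V : X.Opens} (h : V ≤ U) : Γ(F, U) →+ Γ(F, V) :=
  (F.presheaf.map (homOfLE h).op).hom

theorem resM_trans (F : X.Modules) {U V W : X.Opens} (h : V ≤ U) (h' : W ≤ V) (s : Γ(F, U)) :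
    resM F h' (resM F h s) = resM F (h'.trans h) s := by
  change (F.presheaf.map (homOfLE h).op ≫ F.presheaf.map (homOfLE h').op) s = _
  rw [← Functor.map_comp]
  rfl

theorem resM_self (F : X.Modules) {U : X.Opens} (h : U ≤ U) (s : Γ(F, U)) : resM F h s = s := by
  change F.presheaf.map (homOfLE h).op s = s
  rw [show (homOfLE h).op = 𝟙 (op U) from rfl, CategoryTheory.Functor.map_id]
  rfl

theorem resM_app {F G : X.Modules} (φ : F ⟶ G) {U V : X.Opens} (h : V ≤ U) (s : Γ(F, U)) :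
    resM G h (φ.app U s) = φ.app V (resM F h s) :=
  (QCoh.map_app_comm φ (homOfLE h) s).symm

/-- The direct image of the restriction to `V`. -/
def push (V : X.Opens) (F : X.Modules) : X.Modules :=
  (Scheme.Modules.pushforward V.ι).obj ((Scheme.Modules.restrictFunctor V.ι).obj F)

/-- Sections of `push`. -/
def pushEquiv (V : X.Opens) (F : X.Modules) (W : X.Opens) : Γ(push V F, W) ≃+ Γ(F, cut V W) :=
  AddEquiv.refl _

theorem pushEquiv_res (V : X.Opens) (F : X.Modules) {W W' : X.Opens} (h : W' ≤ W) (s : Γ(push V F, W)) :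
    pushEquiv V F W' (resM (push V F) h s) = resM F (cut_mono V h) (pushEquiv V F W s) := rfl

theorem pushEquiv_smul (V : X.Opens) (F : X.Modules) (W : X.Opens) (r : Γ(X, W)) (s : Γ(push V F, W)) :
    pushEquiv V F W (r • s) = X.presheaf.map (homOfLE (cut_le_right V W)).op r • pushEquiv V F W s := by
  refine Eq.trans ?_ (congrArg (· • pushEquiv V F W s) (ConcreteCategory.congr_hom (Scheme.Hom.app_appIso_inv V.ι W) r))
  rfl

/-- The unit. -/
def toPush (V : X.Opens) (F : X.Modules) : F ⟶ push V F :=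
  (Scheme.Modules.restrictAdjunction V.ι).unit.app F

theorem pushEquiv_toPush (V : X.Opens) (F : X.Modules) (W : X.Opens) (s : Γ(F, W)) :
    pushEquiv V F W ((toPush V F).app W s) = resM F (cut_le_right V W) s := by
  change ((Scheme.Modules.restrictAdjunction V.ι).unit.app F).app W s = _
  rw [Scheme.Modules.restrictAdjunction_unit_app_app]
  rfl

theorem isQCoh_push [X.IsSeparated] (V : Aff X) {F : X.Modules} (hF : Coh.IsQCoh F) :
    Coh.IsQCoh (push V.1 F) :=
  haveI : IsAffine V.1.toScheme := V.2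
  haveI : QuasiCompact V.1.ι := QuasiCompact.of_comp V.1.ι (Limits.terminal.from X)
  QCoh.isQCoh_pushforward V.1.ι (QCoh.isQCoh_restrict V.1.ι hF)

/-- A finite affine cover. -/
structure FinCover (X : Scheme.{u}) : Type (u + 1) where
  /-- the index type -/
  ι : Type u
  /-- it is finite -/
  fintype : Fintype ι
  /-- the members -/
  U : ι → Aff X
  cover : ∀ p : X, ∃ i, p ∈ (U i).1

attribute [instance] FinCover.fintype

theorem exists_finCover (X : Scheme.{u}) [CompactSpace X] : Nonempty (FinCover X) := by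
  classical
  obtain ⟨s, hs⟩ := isCompact_univ.elim_finite_subcover (fun U : Aff X => (U.1 : Set X)) (fun U => U.1.2)
    fun p _ => by
      obtain ⟨U, hp, -⟩ := H9DefAut.exists_affine_le (X := X) (W := ⊤) (p := p) trivial
      exact Set.mem_iUnion.2 ⟨⟨U.1, U.2⟩, hp⟩
  refine ⟨⟨↥s, inferInstance, fun i => i.1, fun p => ?_⟩⟩
  obtain ⟨i, hi, hp⟩ := Set.mem_iUnion₂.1 (hs (Set.mem_univ p))
  exact ⟨⟨i, hi⟩, hp⟩

variable (𝒰 : FinCover X)

/-- The sum of the direct images over the cover. -/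
abbrev cov (F : X.Modules) : X.Modules := ⨁ fun i => push (𝒰.U i).1 F

/-- Sections of `cov`. -/
def covGet (F : X.Modules) (W : X.Opens) (i : 𝒰.ι) : Γ(cov 𝒰 F, W) →+ Γ(F, cut (𝒰.U i).1 W) :=
  (pushEquiv _ F W).toAddMonoidHom.comp ((biproduct.π (fun i => push (𝒰.U i).1 F) i).app W).hom

theorem covGet_ext {F : X.Modules} {W : X.Opens} {s t : Γ(cov 𝒰 F, W)}
    (h : ∀ i, covGet 𝒰 F W i s = covGet 𝒰 F W i t) : s = t := by
  classical
  rw [QCoh.biproduct_app_decomp (fun i => push (𝒰.U i).1 F) W s, QCoh.biproduct_app_decomp (fun i => push (𝒰.U i).1 F) W t]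
  exact Finset.sum_congr rfl fun i _ => congrArg _ ((pushEquiv _ F W).injective (h i))

theorem exists_covGet (F : X.Modules) (W : X.Opens) (v : ∀ i, Γ(F, cut (𝒰.U i).1 W)) :
    ∃ s, ∀ i, covGet 𝒰 F W i s = v i := by
  classical
  refine ⟨∑ j, (biproduct.ι (fun i => push (𝒰.U i).1 F) j).app W ((pushEquiv _ F W).symm (v j)), fun i => ?_⟩
  rw [map_sum, Finset.sum_eq_single i]
  · change pushEquiv _ F W ((biproduct.π (fun i => push (𝒰.U i).1 F) i).app W
      ((biproduct.ι (fun i => push (𝒰.U i).1 F) i).app W _)) = _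
    rw [← ConcreteCategory.comp_apply, ← Scheme.Modules.Hom.comp_app, biproduct.ι_π_self]
    simp
  · intro j _ hj
    change pushEquiv _ F W ((biproduct.π (fun i => push (𝒰.U i).1 F) i).app W
      ((biproduct.ι (fun i => push (𝒰.U i).1 F) j).app W _)) = _
    rw [← ConcreteCategory.comp_apply, ← Scheme.Modules.Hom.comp_app, biproduct.ι_π_ne _ hj]
    simp
  · exact fun h => absurd (Finset.mem_univ i) h

/-- A tuple as a section. -/
def covMk (F : X.Modules) (W : X.Opens) (v : ∀ i, Γ(F, cut (𝒰.U i).1 W)) : Γ(cov 𝒰 F, W) :=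
  (exists_covGet 𝒰 F W v).choose

theorem covGet_covMk (F : X.Modules) (W : X.Opens) (v : ∀ i, Γ(F, cut (𝒰.U i).1 W)) (i : 𝒰.ι) :
    covGet 𝒰 F W i (covMk 𝒰 F W v) = v i :=
  (exists_covGet 𝒰 F W v).choose_spec i

theorem covGet_res (F : X.Modules) {W W' : X.Opens} (h : W' ≤ W) (i : 𝒰.ι) (s : Γ(cov 𝒰 F, W)) :
    covGet 𝒰 F W' i (resM _ h s) = resM F (cut_mono _ h) (covGet 𝒰 F W i s) := by
  change pushEquiv _ F W' ((biproduct.π (fun i => push (𝒰.U i).1 F) i).app W' _) = _
  rw [← resM_app, pushEquiv_res]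
  rfl

theorem covGet_smul (F : X.Modules) (W : X.Opens) (i : 𝒰.ι) (r : Γ(X, W)) (s : Γ(cov 𝒰 F, W)) :
    covGet 𝒰 F W i (r • s) = X.presheaf.map (homOfLE (cut_le_right (𝒰.U i).1 W)).op r • covGet 𝒰 F W i s := by
  change pushEquiv _ F W ((biproduct.π (fun i => push (𝒰.U i).1 F) i).app W _) = _
  rw [Scheme.Modules.Hom.app_smul, pushEquiv_smul]
  rfl

/-- The comparison. -/
def toCov (F : X.Modules) : F ⟶ cov 𝒰 F := biproduct.lift fun i => toPush (𝒰.U i).1 F

theorem covGet_toCov (F : X.Modules) (W : X.Opens) (i : 𝒰.ι) (s : Γ(F, W)) :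
    covGet 𝒰 F W i ((toCov 𝒰 F).app W s) = resM F (cut_le_right _ W) s := by
  change pushEquiv _ F W ((biproduct.π (fun i => push (𝒰.U i).1 F) i).app W ((toCov 𝒰 F).app W s)) = _
  rw [← ConcreteCategory.comp_apply, ← Scheme.Modules.Hom.comp_app, toCov, biproduct.lift_π, pushEquiv_toPush]

theorem toCov_injective (F : X.Modules) (W : X.Opens) : Function.Injective ((toCov 𝒰 F).app W) := by
  intro s t h
  refine sub_eq_zero.1 (QCoh.eq_zero_of_locally W _ fun p hp => ?_)
  obtain ⟨i, hi⟩ := 𝒰.cover p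
  refine ⟨cut (𝒰.U i).1 W, homOfLE (cut_le_right _ W), (cut_eq (𝒰.U i).1 W).ge ⟨hi, hp⟩, ?_⟩
  change resM F (cut_le_right (𝒰.U i).1 W) (s - t) = 0
  rw [map_sub, ← covGet_toCov, ← covGet_toCov, h, sub_self]

instance mono_toCov (F : X.Modules) : Mono (toCov 𝒰 F) := by
  refine ⟨fun {Z} g h e => Scheme.Modules.hom_ext _ _ fun W => ?_⟩
  ext z
  exact toCov_injective 𝒰 F W (congrArg (fun φ => (Scheme.Modules.Hom.app φ W) z) e)

/-- The quotient. -/
abbrev qt (F : X.Modules) : X.Modules := cokernel (toCov 𝒰 F)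

/-- The short exact sequence of the cover. -/
abbrev covSeq (F : X.Modules) : ShortComplex X.Modules :=
  ShortComplex.mk (toCov 𝒰 F) (cokernel.π (toCov 𝒰 F)) (cokernel.condition _)

theorem shortExact_covSeq (F : X.Modules) : (covSeq 𝒰 F).ShortExact :=
  { exact := ShortComplex.exact_of_g_is_cokernel _ (cokernelIsCokernel _) }

theorem exists_toCov_eq (F : X.Modules) (W : X.Opens) (s : Γ(cov 𝒰 F, W))
    (h : (cokernel.π (toCov 𝒰 F)).app W s = 0) : ∃ a, (toCov 𝒰 F).app W a = s :=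
  QCoh.exists_app_f_eq (shortExact_covSeq 𝒰 F) W s h

theorem π_toCov (F : X.Modules) (W : X.Opens) (a : Γ(F, W)) :
    (cokernel.π (toCov 𝒰 F)).app W ((toCov 𝒰 F).app W a) = 0 :=
  QCoh.app_g_f (S := covSeq 𝒰 F) W a

theorem isQCoh_cov [X.IsSeparated] {F : X.Modules} (hF : Coh.IsQCoh F) : Coh.IsQCoh (cov 𝒰 F) :=
  QCoh.isQCoh_biproduct _ fun i => isQCoh_push (𝒰.U i) hF

theorem isQCoh_qt [X.IsSeparated] {F : X.Modules} (hF : Coh.IsQCoh F) : Coh.IsQCoh (qt 𝒰 F) :=
  QCoh.isQCoh_cokernel hF (isQCoh_cov 𝒰 hF) _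

theorem π_surjective [X.IsSeparated] {F : X.Modules} (hF : Coh.IsQCoh F) (W : Aff X) :
    Function.Surjective ((cokernel.π (toCov 𝒰 F)).app W.1) :=
  QCoh.app_surjective_of_shortExact (shortExact_covSeq 𝒰 F) hF W.2

end Groth.Agent.H9DefObs
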