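import Groth.Agent.H9DefObs.Cls
import Groth.Agent.H9DefExt.Unit

/-! A lift from the vanishing of the obstruction. -/

set_option autoImplicit false
set_option linter.style.haveILetI false
set_option backward.isDefEq.respectTransparency false
set_option backward.isDefEq.respectTransparency.types false

universe u

open CategoryTheory CategoryTheory.Limits AlgebraicGeometry TopologicalSpace Opposite ArtFun
open Scheme (AffineZariskiSite)
open scoped TensorProduct

noncomputable section

namespace Groth.Agent.H9DefObs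

open Groth.Agent.DefGlueLib

attribute [local instance] Abelian.hasFiniteBiproducts

variable {k : Type u} [Field k] {X : Scheme.{u}} [X.IsSeparated] {x : X ⟶ Art.specPt k}
variable {C C' : Art k k} {ξ : DefSch X x C} {L : Loc ξ} {p : C' ⟶ C}
variable {n : ℕ} (b : Module.Basis (Fin n) k ↥(RingHom.ker p.toAlgHom))

theorem exists_proj (p : C' ⟶ C) :
    ∃ ρ : C' →ₗ[k] ↥(RingHom.ker p.toAlgHom), ∀ j, ρ (kerIncl p j) = j := by
  obtain ⟨ρ, hρ⟩ := (kerIncl p).exists_leftInverse_of_injective (LinearMap.ker_eq_bot.2 Subtype.val_injective)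
  exact ⟨ρ, LinearMap.congr_fun hρ⟩

/-- The projection to the kernel. -/
def kerProj (p : C' ⟶ C) : C' →ₗ[k] ↥(RingHom.ker p.toAlgHom) := (exists_proj p).choose

theorem kerProj_apply (j : ↥(RingHom.ker p.toAlgHom)) : kerProj p (j : C') = j := (exists_proj p).choose_spec j

/-- The coordinate functionals. -/
def lam (α : Fin n) : C' →ₗ[k] k := (b.coord α).comp (kerProj p)

theorem lam_apply (α : Fin n) (j : ↥(RingHom.ker p.toAlgHom)) : lam b α (j : C') = b.coord α j :=
  congrArg (b.coord α) (kerProj_apply j)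

theorem eq_zero_of_lam {c : C'} (hc : c ∈ RingHom.ker p.toAlgHom) (h : ∀ α, lam b α c = 0) : c = 0 := by
  have h' : (⟨c, hc⟩ : ↥(RingHom.ker p.toAlgHom)) = 0 :=
    b.forall_coord_eq_zero_iff.1 fun α => (lam_apply b α ⟨c, hc⟩).symm.trans (h α)
  exact congrArg Subtype.val h'

theorem eq_sum_lam (l : C' →ₗ[k] k) :
    ∀ c ∈ RingHom.ker p.toAlgHom, l c = (∑ α, l (b α : C') • lam b α) c := fun c hc => by
  simp only [LinearMap.sum_apply, LinearMap.smul_apply, smul_eq_mul]
  let l' : ↥(RingHom.ker p.toAlgHom) →ₗ[k] k := l.comp (kerIncl p)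
  have h := congrArg l' (b.sum_repr ⟨c, hc⟩)
  rw [map_sum] at h
  refine h.symm.trans (Finset.sum_congr rfl fun α _ => ?_)
  rw [map_smul, smul_eq_mul, show lam b α c = b.repr ⟨c, hc⟩ α from lam_apply b α ⟨c, hc⟩, mul_comm]
  rfl

theorem covCof_eq_zero_all {W : Aff X} (hp : Art.IsSemismallExt p) {z : Up L p W} (hz : upπ L p W z = 0)
    (h : ∀ α, covCof W (lam b α) z = 0) : z = 0 := by
  refine up_ext (hz.trans (map_zero _).symm) fun i => (eq_zero_of_cof _ fun l => ?_).trans (map_zero _).symm
  rw [cof_congr p hp.1 _ (mapT_upT_eq_zero hz i) (eq_sum_lam b l)]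
  have hα : ∀ α, cof (L.cV i W).1 (lam b α) (upT L p W i z) = 0 := fun α => by
    have e := covGet_covCof W (lam b α) z i
    rw [h α, map_zero] at e
    exact e.symm
  let e : (C' →ₗ[k] k) →+ Sec x (L.cV i W).1 :=
    AddMonoidHom.mk' (fun l => cof _ l (upT L p W i z)) fun l l' => cof_add ..
  change e _ = 0
  rw [map_sum]
  refine Finset.sum_eq_zero fun α _ => ?_
  change cof _ (l (b α : C') • lam b α) (upT L p W i z) = 0
  rw [cof_smul, hα, smul_zero]

theorem covCof_C_mul (hp : Art.IsSemismallExt p) {W : Aff X} (l : C' →ₗ[k] k) {c : C'}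
    (hc : c ∈ RingHom.ker p.toAlgHom) (z : Up L p W) :
    covCof W l (upC L p W c * z) =
      (toCov L.𝒰 (Coh.structureModule X)).app W.1 (toO W.1 (l c • upq L p W z)) := covGet_ext L.𝒰 fun i => by
  have h0 : mapT p (L.cV i W).1 (c ⊗ₜ[k] (1 : Sec x _)) = 0 := by
    rw [mapT_tmul, show p c = 0 from hc, TensorProduct.zero_tmul]
  rw [covGet_covCof, covGet_toCov, map_mul, upT_C, cof_mul p hp _ l h0, redT_upT, cof_tmul, smul_one_mul]
  exact ((resS x (cutA_le_right (L.𝒰.U i) W)).toLinearMap.map_smul (l c) _).symm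

variable (hp : Art.IsSemismallExt p) (T : Sec2 L p) [QuasiSeparated x]
variable (η : Fin n → (Omega.sheaf x ⟶ cov L.𝒰 (Q1 L)))

/-- The defining condition of the lifted ring. -/
def Cond (W : Aff X) (z : Up L p W) : Prop :=
  ∀ α, chiCov hp.1 W (lam b α) (T.diff W (upq L p W z) z) =
    (η α).app W.1 (dO x W.1 (toG (upq L p W z)))

variable {b T η}

theorem cond_add {W : Aff X} {z z' : Up L p W} (h : Cond b hp T η W z) (h' : Cond b hp T η W z') :
    Cond b hp T η W (z + z') := fun α => by
  refine Eq.trans (covGet_ext L.𝒰 fun j => ?_) (((congrArg₂ (· + ·) (h α) (h' α)).trans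
    (map_add ((η α).app W.1).hom _ _).symm).trans (congrArg _ ?_))
  · rw [map_add (covGet L.𝒰 _ _ j), covGet_chiCov, covGet_chiCov, covGet_chiCov, map_add (upq L p W),
      chi_diff_add hp T _ rfl rfl j]
  · rw [map_add (upq L p W)]
    exact (map_add (dO x W.1) _ _).symm

theorem cond_mul {W : Aff X} {z z' : Up L p W} (h : Cond b hp T η W z) (h' : Cond b hp T η W z') :
    Cond b hp T η W (z * z') := fun α => by
  have e : (η α).app W.1 (dO x W.1 (toG (upq L p W (z * z')))) =
      toG (upq L p W z) • chiCov hp.1 W (lam b α) (T.diff W (upq L p W z') z') +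
      toG (upq L p W z') • chiCov hp.1 W (lam b α) (T.diff W (upq L p W z) z) := by
    rw [h α, h' α, ← app_smulM, ← app_smulM, ← map_add, map_mul]
    exact congrArg _ (dO_mul x W.1 _ _)
  refine Eq.trans (covGet_ext L.𝒰 fun j => ?_) e.symm
  rw [map_add (covGet L.𝒰 _ _ j), covGet_smul, covGet_smul, covGet_chiCov, covGet_chiCov, covGet_chiCov,
    map_mul (upq L p W), chi_diff_mul hp T _ rfl rfl j]
  rfl

theorem cond_C {W : Aff X} (c : C') : Cond b hp T η W (upC L p W c) := fun α => by
  refine Eq.trans (covGet_ext L.𝒰 fun j => ?_) ((congrArg _ ((congrArg (dO x W.1) (upq_C L p W c)).trans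
    (dO_str x W.1 _))).trans (map_zero _)).symm
  rw [covGet_chiCov, map_zero]
  have h0 : upq L p W (upC L p W (algebraMap k C' (C'.res c))) = upq L p W (upC L p W c) := by
    rw [upq_C, upq_C, C'.res.commutes]
    rfl
  refine (chi_congr_mem hp _ (T.upq_diff h0 j) ?_).trans ?_
  · rw [Sec2.diff, Sec2.diff, sub_sub_sub_cancel_left, upRes_C, upRes_C, ← map_sub]
    refine Ideal.mem_map_of_mem _ ((Art.mem_maximalIdeal_iff _ _).2 ?_)
    rw [map_sub, C'.res.commutes]
    exact sub_self _
  · rw [upq_C]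
    exact chi_diff_str hp T _ _ j

theorem cond_res {V W : Aff X} (hVW : V ≤ W) {z : Up L p W} (h : Cond b hp T η W z) :
    Cond b hp T η V (upRes L p hVW z) := fun α => by
  refine Eq.trans (covGet_ext L.𝒰 fun j => ?_) (((congrArg (resM _ hVW) (h α)).trans
    (resM_app _ hVW _)).trans (congrArg _ ?_))
  · rw [covGet_chiCov, covGet_res, covGet_chiCov, upq_res]
    exact chi_diff_res hp T _ hVW rfl j
  · rw [upq_res]
    exact (dO_map x hVW _).symm

variable (b T η)

/-- The lifted ring. -/
def liftRing (W : Aff X) : Subring (Up L p W) where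
  carrier := {z | Cond b hp T η W z}
  mul_mem' := cond_mul hp
  add_mem' := cond_add hp
  one_mem' := (map_one (upC L p W)) ▸ cond_C hp 1
  zero_mem' := (map_zero (upC L p W)) ▸ cond_C hp 0
  neg_mem' {z} h := by
    have h' := cond_mul hp (cond_C hp (W := W) (b := b) (T := T) (η := η) (-1 : C')) h
    rwa [map_neg, map_one, neg_one_mul] at h'

theorem exists_lift_ring [Smooth x]
    (hη : ∀ α, η α ≫ cokernel.π (toCov L.𝒰 (Q1 L)) = theta hp T (lam b α)) (W : AffineZariskiSite X)
    (r : DSec ξ (toAff W).1) : ∃ z : liftRing b hp T η (toAff W), upπ L p (toAff W) z.1 = r := by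
  obtain ⟨z, rfl⟩ := exists_upLift (L := L) hp.1 (toAff W) r
  have hτ : ∀ α, ∃ e, (toCov L.𝒰 (Q1 L)).app (toAff W).1
      ((cokernel.π (toCov L.𝒰 (Coh.structureModule X))).app (toAff W).1 e) =
      (η α).app (toAff W).1 (dO x (toAff W).1 (toG (upq L p (toAff W) z))) -
        chiCov hp.1 (toAff W) (lam b α) (T.diff (toAff W) (upq L p (toAff W) z) z) := fun α => by
    obtain ⟨q, hq⟩ := exists_toCov_eq L.𝒰 (Q1 L) (toAff W).1
      ((η α).app (toAff W).1 (dO x (toAff W).1 (toG (upq L p (toAff W) z))) -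
        chiCov hp.1 (toAff W) (lam b α) (T.diff (toAff W) (upq L p (toAff W) z) z)) (by
      rw [map_sub, sub_eq_zero]
      refine Eq.trans ?_ (dfun_eq hp T (lam b α) (W := toAff W) (b := upq L p (toAff W) z) (z := z) rfl)
      refine Eq.trans ?_ (theta_app hp T (lam b α) W (toG (upq L p (toAff W) z)))
      rw [← hη α]
      rfl)
    obtain ⟨e, rfl⟩ := π_surjective L.𝒰 (F := Coh.structureModule X) QCoh.isQCoh_structureModule (toAff W) q
    exact ⟨e, hq⟩
  choose e he using hτ
  let t : ∀ i, TSec x C' (L.cV i (toAff W)).1 := fun i =>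
    ∑ α, (b α : C') ⊗ₜ[k] (-(covGet L.𝒰 _ (toAff W).1 i (e α)) : Sec x (L.cV i (toAff W)).1)
  obtain ⟨m, hm, hmt⟩ := exists_ker (L := L) (p := p) (W := toAff W) t fun i => by
    rw [map_sum]
    exact Finset.sum_eq_zero fun α _ => by
      rw [mapT_tmul, show p (b α : C') = 0 from (b α).2, TensorProduct.zero_tmul]
  have hm' : upq L p (toAff W) m = 0 := by
    change qD ξ _ (upπ L p (toAff W) m) = 0
    rw [hm, map_zero]
  refine ⟨⟨z + m, show Cond b hp T η (toAff W) (z + m) from fun α => ?_⟩, by rw [map_add, hm, add_zero]⟩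
  rw [map_add (upq L p (toAff W)), hm', add_zero]
  have hcov : covCof (toAff W) (lam b α) m = -e α := covGet_ext L.𝒰 fun i => by
    rw [covGet_covCof, hmt, map_neg, map_sum, Finset.sum_eq_single α]
    · rw [cof_tmul, lam_apply, Module.Basis.coord_apply, b.repr_self, Finsupp.single_eq_same, one_smul]
    · intro β _ hβ
      rw [cof_tmul, lam_apply, Module.Basis.coord_apply, b.repr_self, Finsupp.single_eq_of_ne' hβ, zero_smul]
    · exact fun h => absurd (Finset.mem_univ α) h
  refine covGet_ext L.𝒰 fun j => ?_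
  have h1 : chi hp.1 _ (lam b α) (T.diff (toAff W) (upq L p (toAff W) z) (z + m) j) +
      chi hp.1 _ (lam b α) (upRes L p (cutA_le_right (L.𝒰.U j) (toAff W)) m) =
      chi hp.1 _ (lam b α) (T.diff (toAff W) (upq L p (toAff W) z) z j) := by
    rw [← chi_add hp _ (T.upq_diff (by rw [map_add, hm', add_zero]) j) (by rw [upq_res, hm', map_zero])]
    refine congrArg _ ?_
    rw [Sec2.diff, Sec2.diff, map_add]
    abel
  rw [chi_res hp _ _ hm', chi_of_π_eq_zero hp _ hm, hcov, map_neg, map_neg] at h1
  have h2 := congrArg (covGet L.𝒰 (Q1 L) (toAff W).1 j) (he α)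
  rw [covGet_toCov, map_sub, covGet_chiCov] at h2
  rw [covGet_chiCov]
  rw [← h1] at h2
  refine eq_of_sub_eq_zero ?_
  erw [← sub_eq_zero] at h2
  convert h2 using 1
  abel

set_option maxHeartbeats 2000000 in
theorem isDef_liftRing [Smooth x]
    (hη : ∀ α, η α ≫ cokernel.π (toCov L.𝒰 (Q1 L)) = theta hp T (lam b α)) (W : AffineZariskiSite X) :
    IsDef C' (str x W) ((upC L p (toAff W)).codRestrict (liftRing b hp T η (toAff W)) fun c => cond_C hp c)
      ((upq L p (toAff W)).comp (liftRing b hp T η (toAff W)).subtype) := by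
  classical
  let W' := toAff W
  obtain ⟨κ, e, he⟩ := (isDefD ξ W').exists_basis
  choose ê hê using fun a => exists_lift_ring b hp T η hη W (e a)
  have hq : (⇑((upq L p W').comp (liftRing b hp T η W').subtype) ∘ ê) = qD ξ W'.1 ∘ e := funext fun a =>
    congrArg (qD ξ W'.1) (hê a)
  have he' : Function.Bijective (comb (str x W) (⇑((upq L p W').comp (liftRing b hp T η W').subtype) ∘ ê)) := by
    rw [hq]; exact he
  have hb := (isDefD ξ W').bijective_comb he
  let Φ : (κ →₀ C') →+ Up L p W' := Finsupp.liftAddHom fun a =>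
    (AddMonoidHom.mulRight (ê a).1).comp (upC L p W').toAddMonoidHom
  have hΦ : ∀ v, (comb ((upC L p W').codRestrict (liftRing b hp T η W') fun c => cond_C hp c) ê v).1 = Φ v :=
    fun v => by
    rw [comb, Finsupp.liftAddHom_apply]
    exact map_finsuppSum (liftRing b hp T η W').subtype _ _
  have hΦπ : ∀ v, upπ L p W' (Φ v) = comb (secD ξ W'.1) e (v.mapRange p (map_zero p.toAlgHom)) := fun v => by
    rw [comb, Finsupp.sum_mapRange_index (fun a => by simp), Finsupp.liftAddHom_apply, map_finsuppSum]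
    exact Finsupp.sum_congr fun a _ => by simp [upπ_C, hê, W']
  have hcof : ∀ (v : κ →₀ C'), (∀ a, v a ∈ RingHom.ker p.toAlgHom) → ∀ l : C' →ₗ[k] k, covCof W' l (Φ v) =
      (toCov L.𝒰 (Coh.structureModule X)).app W'.1
        (toO W'.1 (comb (algebraMap k (Sec x W'.1)) (qD ξ W'.1 ∘ e) (v.mapRange l (map_zero l)))) := by
    intro v hv l
    rw [comb, Finsupp.sum_mapRange_index (fun a => by simp), Finsupp.liftAddHom_apply, map_finsuppSum]
    refine (Finsupp.sum_congr (g2 := fun a c => (toCov L.𝒰 (Coh.structureModule X)).app W'.1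
      (toO W'.1 (algebraMap k (Sec x W'.1) (l c) * qD ξ W'.1 (e a)))) fun a _ => ?_).trans ?_
    · change covCof W' l (upC L p W' (v a) * (ê a).1) = _
      rw [covCof_C_mul hp l (hv a)]
      exact congrArg (fun s : Sec x W'.1 => (toCov L.𝒰 (Coh.structureModule X)).app W'.1 (toO W'.1 s))
        ((Algebra.smul_def (R := k) (A := Sec x W'.1) _ _).trans
          (congrArg (algebraMap k (Sec x W'.1) (l (v a)) * ·) (congrArg (qD ξ W'.1) (hê a))))
    · exact (map_finsuppSum ((toCov L.𝒰 (Coh.structureModule X)).app W'.1).hom v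
        fun a c => toO W'.1 (algebraMap k (Sec x W'.1) (l c) * qD ξ W'.1 (e a))).symm
  refine isDef_of_comb he' (fun c => upq_C L p W' c) ⟨fun v v' hv => ?_, fun z => ?_⟩
  · rw [← sub_eq_zero]
    have h0 : Φ (v - v') = 0 := by rw [map_sub, ← hΦ, ← hΦ, hv, sub_self]
    have hJ : ∀ a, (v - v') a ∈ RingHom.ker p.toAlgHom := fun a => by
      have := DFunLike.congr_fun (hb.1 (a₂ := 0) (((hΦπ _).symm.trans (by rw [h0, map_zero])).trans
        (by simp [comb]))) a
      rwa [Finsupp.mapRange_apply] at this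
    refine Finsupp.ext fun a => eq_zero_of_lam b (hJ a) fun α => ?_
    have h1 := hcof _ hJ (lam b α)
    rw [h0, map_zero] at h1
    have h2 : comb (algebraMap k (Sec x W'.1)) (qD ξ W'.1 ∘ e) ((v - v').mapRange (lam b α) (map_zero _)) = 0 :=
      toCov_injective L.𝒰 _ W'.1 (h1.symm.trans (map_zero _).symm)
    have h3 := DFunLike.congr_fun (he.1 (a₂ := 0) (h2.trans (by simp [comb]))) a
    rwa [Finsupp.mapRange_apply] at h3
  · obtain ⟨u, hu⟩ := hb.2 (upπ L p W' z.1)
    obtain ⟨v, rfl⟩ := Finsupp.mapRange_surjective (α := κ) p (map_zero p.toAlgHom) hp.1 u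
    let m : liftRing b hp T η W' := z - comb ((upC L p W').codRestrict (liftRing b hp T η W') fun c => cond_C hp c) ê v
    have hm1 : m.1 = z.1 - Φ v := by rw [← hΦ]; rfl
    have hm : upπ L p W' m.1 = 0 := by rw [hm1, map_sub, hΦπ, hu, sub_self]
    have hmq : upq L p W' m.1 = 0 := by
      change qD ξ _ (upπ L p W' m.1) = 0
      rw [hm, map_zero]
    have hrepr : ∀ α, ∃ w : κ →₀ k, covCof W' (lam b α) m.1 =
        (toCov L.𝒰 (Coh.structureModule X)).app W'.1 (toO W'.1 (comb (algebraMap k (Sec x W'.1)) (qD ξ W'.1 ∘ e) w)) := by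
      intro α
      have h4 : chi hp.1 W' (lam b α) m.1 = 0 := by
        refine toCov_injective L.𝒰 (Q1 L) W'.1 ((covGet_ext L.𝒰 fun j => ?_).trans (map_zero _).symm)
        have h5 := congrArg (covGet L.𝒰 (Q1 L) W'.1 j) (m.2 α)
        rw [covGet_chiCov, hmq] at h5
        have h6 : (η α).app W'.1 (dO x W'.1 (toG (0 : Sec x W'.1))) = 0 :=
          (congrArg _ (map_zero (dO x W'.1))).trans (map_zero _)
        rw [h6, map_zero] at h5
        rw [covGet_toCov, ← chi_res hp (cutA_le_right (L.𝒰.U j) W') _ hmq, map_zero]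
        have hs0 : T.s j (L.cV j W') (cutA_le_left _ _) 0 ∈ upM L p (L.cV j W') := by
          have h7 := T.add j (L.cV j W') (cutA_le_left _ _) 0 0
          rw [add_zero] at h7
          simpa using (upM L p _).neg_mem h7
        have h8 := chi_add hp (lam b α) (z' := upRes L p (cutA_le_right (L.𝒰.U j) W') m.1)
          (T.upq_diff (W := W') (b := 0) (z := m.1) hmq j) (by rw [upq_res, hmq, map_zero])
        rw [h5, zero_add] at h8
        rw [← h8]
        refine chi_mem hp _ ?_
        rw [Sec2.diff, map_zero, sub_add_cancel]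
        exact hs0
      rw [chi_of_π_eq_zero hp _ hm] at h4
      obtain ⟨c, hc⟩ := exists_toCov_eq L.𝒰 _ W'.1 _ h4
      obtain ⟨w, rfl⟩ := he.2 c
      exact ⟨w, hc.symm⟩
    choose w hw using hrepr
    let u : κ →₀ C' := ∑ α, (w α).mapRange (fun c => c • (b α : C')) (zero_smul k (b α : C'))
    have hu : ∀ a, u a ∈ RingHom.ker p.toAlgHom := fun a => by
      rw [Finsupp.finset_sum_apply]
      exact Ideal.sum_mem _ fun α _ => by
        rw [Finsupp.mapRange_apply, Algebra.smul_def]
        exact Ideal.mul_mem_left _ _ (b α).2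
    refine ⟨v + u, Subtype.ext ((hΦ _).trans ?_)⟩
    have key : m.1 - Φ u = 0 := covCof_eq_zero_all b hp (by
      rw [map_sub, hm, zero_sub, neg_eq_zero, hΦπ,
        show u.mapRange p (map_zero p.toAlgHom) = 0 from Finsupp.ext fun a => by
          rw [Finsupp.mapRange_apply]; exact hu a]
      simp [comb]) fun α => by
      rw [map_sub, hw α, hcof u hu, sub_eq_zero]
      refine congrArg _ (congrArg _ (congrArg _ (Finsupp.ext fun a => ?_)))
      rw [Finsupp.mapRange_apply, Finsupp.finset_sum_apply, map_sum, Finset.sum_eq_single α]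
      · rw [Finsupp.mapRange_apply, map_smul, lam_apply, Module.Basis.coord_apply, b.repr_self,
          Finsupp.single_eq_same, smul_eq_mul, mul_one]
      · intro β _ hβ
        rw [Finsupp.mapRange_apply, map_smul, lam_apply, Module.Basis.coord_apply, b.repr_self,
          Finsupp.single_eq_of_ne' hβ, smul_zero]
      · exact fun h => absurd (Finset.mem_univ α) h
    rw [hm1, sub_sub, sub_eq_zero] at key
    rw [map_add, ← key]

/-- The lifted family. -/
def liftPDef [Smooth x] (hη : ∀ α, η α ≫ cokernel.π (toCov L.𝒰 (Q1 L)) = theta hp T (lam b α)) : PDef x C' where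
  R :=
    { obj := fun W => CommRingCat.of (liftRing b hp T η (toAff W.unop))
      map := fun {U V} f => CommRingCat.ofHom (((upRes L p
        (show toAff V.unop ≤ toAff U.unop from AffineZariskiSite.toOpens_mono f.unop.le)).comp
          (liftRing b hp T η (toAff U.unop)).subtype).codRestrict _ fun z => cond_res hp _ z.2)
      map_id := fun U => CommRingCat.hom_ext (RingHom.ext fun z => Subtype.ext (up_ext
        ((upπ_res L p _ z.1).trans (by
          change ξ.total.presheaf.map (homOfLE _).op _ = _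
          rw [show (homOfLE _).op = 𝟙 (op (imOpen ξ U.unop.toOpens)) from rfl, CategoryTheory.Functor.map_id]
          rfl))
        (fun i => (upT_res L p _ z.1 i).trans (by
          refine DFunLike.congr_fun (f := resT (cutA_mono (L.𝒰.U i) le_rfl)) (g := AlgHom.id k _) ?_ _
          refine Algebra.TensorProduct.ext' fun c s => ?_
          rw [resT_tmul, resS_refl]
          rfl))))
      map_comp := fun f g => CommRingCat.hom_ext (RingHom.ext fun z => Subtype.ext
        (upRes_res L p _ _ z.1).symm) }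
  a W := (upC L p (toAff W.unop)).codRestrict _ fun c => cond_C hp c
  a_map f c := Subtype.ext (upRes_C L p _ c)
  q :=
    { app := fun W => CommRingCat.ofHom ((upq L p (toAff W.unop)).comp (liftRing b hp T η (toAff W.unop)).subtype)
      naturality := fun U V f => CommRingCat.hom_ext (RingHom.ext fun z => upq_res L p _ z.1) }
  isDef W := isDef_liftRing b hp T η hη W.unop

theorem exists_map_eq_of_coboundary [Smooth x]
    (hη : ∀ α, η α ≫ cokernel.π (toCov L.𝒰 (Q1 L)) = theta hp T (lam b α)) :
    ∃ u', (defFunctor X x).map p u' = ξ.cl := by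
  let φ : PHom p (liftPDef b hp T η hη) (ofSch ξ) :=
    { app :=
        { app := fun W => CommRingCat.ofHom ((upπ L p (toAff W.unop)).comp (liftRing b hp T η (toAff W.unop)).subtype)
          naturality := fun U V f => CommRingCat.hom_ext (RingHom.ext fun z => upπ_res L p _ z.1) }
      comm := fun U c => rfl
      q_app := rfl }
  exact ⟨_, (H9DefExt.map_cl_pHom _ φ).trans (cl_eq_iff.2 ⟨counit ξ⟩)⟩

end Groth.Agent.H9DefObs
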