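import Groth.Agent.H9DefObs.Aff
import Groth.Agent.DefGlueLib.Schless
import Mathlib.RingTheory.TensorProduct.Maps
import Mathlib.LinearAlgebra.TensorProduct.RightExactness
import Mathlib.LinearAlgebra.TensorProduct.Basis

/-! Deformations of smooth schemes split over the affine opens. -/

set_option autoImplicit false
set_option linter.style.haveILetI false
set_option backward.isDefEq.respectTransparency false
set_option backward.isDefEq.respectTransparency.types false

universe u

open CategoryTheory CategoryTheory.Limits AlgebraicGeometry TopologicalSpace Opposite ArtFun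
open scoped TensorProduct

noncomputable section

namespace Groth.Agent.H9DefObs

open Groth.Agent.DefGlueLib

variable {k : Type u} [Field k] {X : Scheme.{u}} {x : X ⟶ Art.specPt k} {C C' : Art k k}

/-- Sections of a deformation over an open of the closed fibre. -/
def DSec (ξ : DefSch X x C) (V : X.Opens) : Type u := Γ(ξ.total, imOpen ξ V)

variable (ξ : DefSch X x C)

instance (V : X.Opens) : CommRing (DSec ξ V) := inferInstanceAs (CommRing Γ(ξ.total, imOpen ξ V))

/-- The structure map. -/
def secD (V : X.Opens) : C →+* DSec ξ V := secA ξ (imOpen ξ V)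

instance (V : X.Opens) : Algebra k (DSec ξ V) := ((secD ξ V).comp (algebraMap k C)).toAlgebra

/-- The structure map, linearly. -/
def secDₐ (V : X.Opens) : C →ₐ[k] DSec ξ V :=
  { secD ξ V with commutes' := fun _ => rfl }

theorem secDₐ_apply (V : X.Opens) (c : C) : secDₐ ξ V c = secD ξ V c := rfl

/-- Restriction. -/
def resD {U V : X.Opens} (h : V ≤ U) : DSec ξ U →+* DSec ξ V :=
  (ξ.total.presheaf.map (homOfLE (imOpen_mono ξ h)).op).hom

theorem resD_secD {U V : X.Opens} (h : V ≤ U) (c : C) : resD ξ h (secD ξ U c) = secD ξ V c := by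
  refine DFunLike.congr_fun (f := (ξ.total.presheaf.map _).hom.comp (secA ξ _)) ?_ c
  rw [← CommRingCat.hom_comp, Category.assoc]
  exact congrArg (fun g => ((Scheme.ΓSpecIso (CommRingCat.of C)).inv ≫ g).hom) (Scheme.Hom.appLE_map ξ.f _ _)

theorem resD_resD {U V W : X.Opens} (h : V ≤ U) (h' : W ≤ V) (s : DSec ξ U) :
    resD ξ h' (resD ξ h s) = resD ξ (h'.trans h) s := by
  change (ξ.total.presheaf.map _ ≫ ξ.total.presheaf.map _) s = _
  rw [← Functor.map_comp]
  rfl

/-- Reduction to the closed fibre. -/
def qD (V : X.Opens) : DSec ξ V →+* Sec x V :=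
  (ξ.i.appLE (imOpen ξ V) V (preimage_imOpen ξ V).ge).hom

theorem qD_resD {U V : X.Opens} (h : V ≤ U) (s : DSec ξ U) : qD ξ V (resD ξ h s) = resS x h (qD ξ U s) :=
  ConcreteCategory.congr_hom ((Scheme.Hom.map_appLE ξ.i _ _).trans (Scheme.Hom.appLE_map ξ.i _ _).symm) s

theorem isDefD (V : Aff X) : IsDef C (algebraMap k (Sec x V.1)) (secD ξ V.1) (qD ξ V.1) :=
  isDef_sec ξ (show Scheme.AffineZariskiSite X from ⟨V.1, V.2⟩) (preimage_imOpen ξ V.1)

theorem qD_secD (V : Aff X) (c : C) : qD ξ V.1 (secD ξ V.1 c) = algebraMap k _ (C.res c) :=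
  (isDefD ξ V).comm c

theorem ker_qD_le (V : Aff X) : RingHom.ker (qD ξ V.1) ≤ (IsLocalRing.maximalIdeal C).map (secD ξ V.1) :=
  (isDefD ξ V).ker_le

theorem isNilpotent_ker_qD (V : Aff X) : IsNilpotent (RingHom.ker (qD ξ V.1)) := by
  obtain ⟨n, hn⟩ := IsArtinianRing.isNilpotent_jacobson_bot (R := C)
  rw [IsLocalRing.jacobson_eq_maximalIdeal ⊥ bot_ne_top] at hn
  refine ⟨n, le_bot_iff.1 ((Ideal.pow_right_mono (ker_qD_le ξ V) n).trans (le_of_eq ?_))⟩
  rw [← Ideal.map_pow, hn]
  exact Ideal.map_bot

/-- A splitting over the affines below an affine. -/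
structure Split (U : Aff X) where
  /-- the section -/
  s : ∀ V : Aff X, V ≤ U → (Sec x V.1 →ₐ[k] DSec ξ V.1)
  q : ∀ V h b, qD ξ V.1 (s V h b) = b
  res : ∀ {V W : Aff X} (h : V ≤ W) (hW : W ≤ U) (b : Sec x W.1),
    s V (h.trans hW) (resS x h b) = resD ξ h (s W hW b)

theorem exists_split [Smooth x] (U : Aff X) : Nonempty (Split ξ U) := by
  obtain ⟨σ, hσ, hσc, hσr⟩ := exists_lifts U (fun W => DSec ξ W.1) (fun W => Sec x W.1)
    (fun {V W} h => resD ξ h) (fun {V W} h => (resS x h).toRingHom) (fun h₁ h₂ a => resD_resD ξ _ _ _)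
    (fun W => qD ξ W.1) (fun h a => qD_resD ξ h a) (fun W _ => (isDefD ξ W).surjective)
    (fun W _ => isNilpotent_ker_qD ξ W)
    (fun W => (secD ξ W.1).comp (algebraMap k C)) (fun h t => resD_secD ξ h _)
    (fun W _ => RingHom.id _) (fun h hW b => rfl)
    (fun W hW t => ((qD_secD ξ W _).trans (congrArg _ (C.res.commutes t))).symm)
  exact ⟨{ s := fun V h => { σ V h with commutes' := hσc V h }, q := hσ, res := fun h hW b => hσr h hW b }⟩

/-! ### The trivial deformation of an affine piece -/

variable (x C) in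
/-- The sections of the trivial deformation. -/
abbrev TSec (V : X.Opens) : Type u := (C : Type u) ⊗[k] Sec x V

/-- Restriction. -/
def resT {U V : X.Opens} (h : V ≤ U) : TSec x C U →ₐ[k] TSec x C V :=
  Algebra.TensorProduct.map (AlgHom.id k C) (resS x h)

theorem resT_tmul {U V : X.Opens} (h : V ≤ U) (c : C) (b : Sec x U) :
    resT h (c ⊗ₜ[k] b) = c ⊗ₜ resS x h b := rfl

theorem resT_resT {U V W : X.Opens} (h : V ≤ U) (h' : W ≤ V) (t : TSec x C U) :
    resT h' (resT h t) = resT (h'.trans h) t := by
  induction t using TensorProduct.induction_on with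
  | zero => simp
  | tmul c b => rw [resT_tmul, resT_tmul, resT_tmul, resS_resS]
  | add a b ha hb => rw [map_add, map_add, map_add, ha, hb]

variable (x C) in
/-- Reduction to the closed fibre. -/
def redT (V : X.Opens) : TSec x C V →ₐ[k] Sec x V :=
  Algebra.TensorProduct.lift ((Algebra.ofId k (Sec x V)).comp C.res) (AlgHom.id k _) fun _ _ => Commute.all _ _

theorem redT_tmul (V : X.Opens) (c : C) (b : Sec x V) :
    redT x C V (c ⊗ₜ[k] b) = algebraMap k _ (C.res c) * b :=
  Algebra.TensorProduct.lift_tmul _ _ _ c b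

theorem redT_resT {U V : X.Opens} (h : V ≤ U) (t : TSec x C U) :
    redT x C V (resT h t) = resS x h (redT x C U t) := by
  induction t using TensorProduct.induction_on with
  | zero => simp
  | tmul c b => rw [resT_tmul, redT_tmul, redT_tmul, map_mul, AlgHom.commutes]
  | add a b ha hb => rw [map_add, map_add, map_add, map_add, ha, hb]

/-- The coordinate of a functional. -/
def cof (V : X.Opens) (l : C →ₗ[k] k) : TSec x C V →ₗ[k] Sec x V :=
  (TensorProduct.lid k (Sec x V)).toLinearMap.comp (LinearMap.rTensor (Sec x V) l)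

theorem cof_tmul (V : X.Opens) (l : C →ₗ[k] k) (c : C) (b : Sec x V) :
    cof V l (c ⊗ₜ[k] b) = l c • b := by simp [cof]

theorem cof_resT {U V : X.Opens} (h : V ≤ U) (l : C →ₗ[k] k) (t : TSec x C U) :
    cof V l (resT h t) = resS x h (cof U l t) := by
  induction t using TensorProduct.induction_on with
  | zero => simp
  | tmul c b => rw [resT_tmul, cof_tmul, cof_tmul, map_smul]
  | add a b ha hb => rw [map_add, map_add, map_add, map_add, ha, hb]

theorem cof_add (V : X.Opens) (l l' : C →ₗ[k] k) (t : TSec x C V) :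
    cof V (l + l') t = cof V l t + cof V l' t := by
  induction t using TensorProduct.induction_on with
  | zero => simp
  | tmul c b => rw [cof_tmul, cof_tmul, cof_tmul, LinearMap.add_apply, add_smul]
  | add a b ha hb => rw [map_add, map_add, map_add, ha, hb]; abel

theorem cof_smul (V : X.Opens) (r : k) (l : C →ₗ[k] k) (t : TSec x C V) :
    cof V (r • l) t = r • cof V l t := by
  induction t using TensorProduct.induction_on with
  | zero => simp
  | tmul c b => rw [cof_tmul, cof_tmul, LinearMap.smul_apply, smul_assoc]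
  | add a b ha hb => rw [map_add, map_add, ha, hb, smul_add]

variable {ξ} {U : Aff X} (S : Split ξ U)

/-- The trivialization. -/
def Split.tmap (V : Aff X) (h : V ≤ U) : TSec x C V.1 →ₐ[k] DSec ξ V.1 :=
  Algebra.TensorProduct.lift (secDₐ ξ V.1) (S.s V h) fun _ _ => Commute.all _ _

theorem Split.tmap_tmul (V : Aff X) (h : V ≤ U) (c : C) (b : Sec x V.1) :
    S.tmap V h (c ⊗ₜ[k] b) = secD ξ V.1 c * S.s V h b :=
  Algebra.TensorProduct.lift_tmul _ _ _ c b

theorem Split.qD_tmap (V : Aff X) (h : V ≤ U) (t : TSec x C V.1) :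
    qD ξ V.1 (S.tmap V h t) = redT x C V.1 t := by
  induction t using TensorProduct.induction_on with
  | zero => simp
  | tmul c b => rw [S.tmap_tmul, redT_tmul, map_mul, qD_secD, S.q]
  | add a b ha hb => rw [map_add, map_add, map_add, ha, hb]

theorem Split.tmap_resT {V W : Aff X} (h : V ≤ W) (hW : W ≤ U) (t : TSec x C W.1) :
    S.tmap V (h.trans hW) (resT h t) = resD ξ h (S.tmap W hW t) := by
  induction t using TensorProduct.induction_on with
  | zero => simp
  | tmul c b => rw [resT_tmul, S.tmap_tmul, S.tmap_tmul, map_mul, resD_secD, S.res]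
  | add a b ha hb => rw [map_add, map_add, map_add, map_add, ha, hb]

theorem Split.tmap_bijective (V : Aff X) (h : V ≤ U) : Function.Bijective (S.tmap V h) := by
  classical
  let e := Module.Free.chooseBasis k (Sec x V.1)
  have he : Function.Bijective (comb (algebraMap k (Sec x V.1)) (qD ξ V.1 ∘ fun i => S.s V h (e i))) := by
    rw [show (qD ξ V.1 ∘ fun i => S.s V h (e i)) = e from funext fun i => S.q V h _]
    rw [funext (comb_eq (A := k) e)]
    exact ⟨e.linearIndependent, LinearMap.range_eq_top.1 (by
      rw [Finsupp.range_linearCombination, e.span_eq])⟩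
  have hb := (isDefD ξ V).bijective_comb he
  let E := TensorProduct.equivFinsuppOfBasisRight (R := k) (M := (C : Type u)) e
  have hfun : (S.tmap V h : TSec x C V.1 → DSec ξ V.1) ∘ E.symm =
      comb (secD ξ V.1) fun i => S.s V h (e i) := funext fun v => by
    rw [Function.comp_apply, TensorProduct.equivFinsuppOfBasisRight_symm_apply, map_finsuppSum]
    exact Finsupp.sum_congr fun i _ => S.tmap_tmul V h _ _
  exact (Function.Bijective.of_comp_iff _ E.symm.bijective).1 (hfun ▸ hb)

/-! ### Change of the base -/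

/-- Change of coefficients. -/
def mapT (p : C' ⟶ C) (V : X.Opens) : TSec x C' V →ₐ[k] TSec x C V :=
  Algebra.TensorProduct.map p.toAlgHom (AlgHom.id k _)

theorem mapT_tmul (p : C' ⟶ C) (V : X.Opens) (c : C') (b : Sec x V) :
    mapT p V (c ⊗ₜ[k] b) = p c ⊗ₜ b := rfl

theorem mapT_resT (p : C' ⟶ C) {U V : X.Opens} (h : V ≤ U) (t : TSec x C' U) :
    mapT p V (resT h t) = resT h (mapT p U t) := by
  induction t using TensorProduct.induction_on with
  | zero => simp
  | tmul c b => rw [resT_tmul, mapT_tmul, mapT_tmul, resT_tmul]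
  | add a b ha hb => rw [map_add, map_add, map_add, map_add, ha, hb]

theorem redT_mapT (p : C' ⟶ C) (V : X.Opens) (t : TSec x C' V) :
    redT x C V (mapT p V t) = redT x C' V t := by
  induction t using TensorProduct.induction_on with
  | zero => simp
  | tmul c b => rw [mapT_tmul, redT_tmul, redT_tmul, Art.res_app]
  | add a b ha hb => rw [map_add, map_add, map_add, ha, hb]

theorem cof_mapT (p : C' ⟶ C) (V : X.Opens) (l : C →ₗ[k] k) (t : TSec x C' V) :
    cof V l (mapT p V t) = cof V (l.comp p.toAlgHom.toLinearMap) t := by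
  induction t using TensorProduct.induction_on with
  | zero => simp
  | tmul c b => rw [mapT_tmul, cof_tmul, cof_tmul]; rfl
  | add a b ha hb => rw [map_add, map_add, map_add, ha, hb]

theorem mapT_surjective (p : C' ⟶ C) (hp : Function.Surjective p) (V : X.Opens) :
    Function.Surjective (mapT (x := x) p V) :=
  Algebra.TensorProduct.map_surjective p.toAlgHom (AlgHom.id k _) hp Function.surjective_id

/-- The inclusion of the kernel. -/
abbrev kerIncl (p : C' ⟶ C) : ↥(RingHom.ker p.toAlgHom) →ₗ[k] C' :=
  (RingHom.ker p.toAlgHom).subtype.restrictScalars k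

theorem exists_rTensor_eq (p : C' ⟶ C) (hp : Function.Surjective p) (V : X.Opens) {z : TSec x C' V}
    (hz : mapT p V z = 0) : ∃ w, LinearMap.rTensor (Sec x V) (kerIncl p) w = z := by
  have hex : Function.Exact (kerIncl p) p.toAlgHom.toLinearMap := fun c =>
    ⟨fun hc => ⟨⟨c, hc⟩, rfl⟩, fun ⟨w, hw⟩ => hw ▸ w.2⟩
  have hg : Function.Surjective p.toAlgHom.toLinearMap := hp
  refine (rTensor_exact (Sec x V) hex hg z).1 ?_
  rw [← hz]
  clear hz
  induction z using TensorProduct.induction_on with
  | zero => simp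
  | tmul c b => rfl
  | add a b ha hb => rw [map_add, map_add, ha, hb]

theorem cof_congr (p : C' ⟶ C) (hp : Function.Surjective p) (V : X.Opens) {z : TSec x C' V}
    (hz : mapT p V z = 0) {l l' : C' →ₗ[k] k} (h : ∀ c ∈ RingHom.ker p.toAlgHom, l c = l' c) :
    cof V l z = cof V l' z := by
  obtain ⟨w, rfl⟩ := exists_rTensor_eq p hp V hz
  clear hz
  induction w using TensorProduct.induction_on with
  | zero => simp
  | tmul c b => rw [LinearMap.rTensor_tmul, cof_tmul, cof_tmul, show l (kerIncl p c) = l' (kerIncl p c) from h _ c.2]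
  | add a b ha hb => rw [map_add, map_add, map_add, ha, hb]

theorem cof_mul (p : C' ⟶ C) (hp : Art.IsSemismallExt p) (V : X.Opens) (l : C' →ₗ[k] k) {z : TSec x C' V}
    (hz : mapT p V z = 0) (t : TSec x C' V) : cof V l (z * t) = cof V l z * redT x C' V t := by
  obtain ⟨w, rfl⟩ := exists_rTensor_eq p hp.1 V hz
  clear hz
  induction w using TensorProduct.induction_on with
  | zero => simp
  | add a b ha hb => rw [map_add, add_mul, map_add, map_add, add_mul, ha, hb]
  | tmul c b =>
    induction t using TensorProduct.induction_on with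
    | zero => simp
    | add a' b' ha hb => rw [mul_add, map_add, map_add, mul_add, ha, hb]
    | tmul c' b' =>
      rw [LinearMap.rTensor_tmul, Algebra.TensorProduct.tmul_mul_tmul, cof_tmul, cof_tmul, redT_tmul]
      change l (c.1 * c') • (b * b') = l c.1 • b * _
      have hc : c.1 * c' = C'.res c' • c.1 := by
        rw [mul_comm]
        have hm : c' - algebraMap k C' (C'.res c') ∈ IsLocalRing.maximalIdeal C' := by
          rw [Art.mem_maximalIdeal_iff, map_sub, C'.res.commutes]
          exact sub_self _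
        have := Ideal.mul_mem_mul hm c.2
        rw [hp.2, Ideal.mem_bot, sub_mul, sub_eq_zero] at this
        rw [this, Algebra.smul_def]
      rw [hc, map_smul, smul_eq_mul, Algebra.smul_def, Algebra.smul_def, map_mul]
      ring

theorem eq_zero_of_cof (V : X.Opens) {z : TSec x C' V}
    (h : ∀ l : C' →ₗ[k] k, cof V l z = 0) : z = 0 := by
  classical
  let e := Module.Free.chooseBasis k C'
  refine (TensorProduct.equivFinsuppOfBasisLeft e).injective (Finsupp.ext fun i => ?_)
  have key : ∀ t : TSec x C' V, TensorProduct.equivFinsuppOfBasisLeft e t i = cof V (e.coord i) t := fun t => by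
    induction t using TensorProduct.induction_on with
    | zero => simp
    | tmul c b => rw [cof_tmul, TensorProduct.equivFinsuppOfBasisLeft_apply_tmul_apply]; rfl
    | add a b ha hb => rw [map_add, Finsupp.add_apply, map_add, ha, hb]
  rw [key, h, map_zero, Finsupp.zero_apply]

end Groth.Agent.H9DefObs
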