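import Groth.Agent.H9DefObs.Lift
import Groth.Agent.H9DefObs.Converse
import Groth.Agent.H9DefExt.Main
import Groth.Prelude.Def_ArtFun3

/-! The obstruction theory of the deformations of a smooth scheme. -/

set_option autoImplicit false
set_option linter.style.haveILetI false
set_option backward.isDefEq.respectTransparency false
set_option backward.isDefEq.respectTransparency.types false

universe u v

open CategoryTheory CategoryTheory.Limits AlgebraicGeometry TopologicalSpace Opposite ArtFun Abelian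
open Scheme (AffineZariskiSite)
open scoped TensorProduct

noncomputable section

namespace Groth.Agent.H9DefObs

open Groth.Agent.DefGlueLib

attribute [local instance] Abelian.hasFiniteBiproducts

variable {k : Type u} [Field k] {X : Scheme.{u}} [X.IsSeparated] {x : X ⟶ Art.specPt k} {C C' C'' : Art k k}
variable {ξ : DefSch X x C} {L : Loc ξ} {p : C' ⟶ C} {p' : C'' ⟶ C} (q : C' ⟶ C'') (hq : ∀ c, p' (q c) = p c)

omit [X.IsSeparated] in
include hq in
theorem mapT_mapT (V : X.Opens) (t : TSec x C' V) : mapT p' V (mapT q V t) = mapT p V t := by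
  induction t using TensorProduct.induction_on with
  | zero => simp
  | tmul c b => rw [mapT_tmul, mapT_tmul, mapT_tmul, hq]
  | add a b ha hb => rw [map_add, map_add, map_add, ha, hb]

/-- Change of the extension. -/
def upMap (W : Aff X) : Up L p W →+* Up L p' W :=
  ((upπ L p W).prod (RingHom.pi fun i => (mapT q (L.cV i W).1).toRingHom.comp (upT L p W i))).codRestrict _
    fun z => mem_up.2 fun i => by
      change (L.S i).tmap (L.cV i W) _ (mapT p' _ (mapT q _ (upT L p W i z))) = resD ξ _ (upπ L p W z)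
      rw [mapT_mapT q hq, up_spec]

theorem upπ_map (W : Aff X) (z : Up L p W) : upπ L p' W (upMap q hq W z) = upπ L p W z := rfl

theorem upT_map (W : Aff X) (i : L.𝒰.ι) (z : Up L p W) :
    upT L p' W i (upMap q hq W z) = mapT q _ (upT L p W i z) := rfl

theorem upq_map (W : Aff X) (z : Up L p W) : upq L p' W (upMap q hq W z) = upq L p W z := rfl

theorem upMap_C (W : Aff X) (c : C') : upMap q hq W (upC L p W c) = upC L p' W (q c) := by
  refine up_ext ?_ fun i => ?_
  · rw [upπ_map, upπ_C, upπ_C, hq]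
  · rw [upT_map, upT_C, upT_C, mapT_tmul]

theorem upMap_res {V W : Aff X} (h : V ≤ W) (z : Up L p W) :
    upMap q hq V (upRes L p h z) = upRes L p' h (upMap q hq W z) := by
  refine up_ext ?_ fun i => ?_
  · rw [upπ_map, upπ_res, upπ_res, upπ_map]
  · rw [upT_map, upT_res, upT_res, upT_map, mapT_resT]

theorem upMap_mem (W : Aff X) {z : Up L p W} (hz : z ∈ upM L p W) : upMap q hq W z ∈ upM L p' W := by
  refine (Ideal.map_le_iff_le_comap.2 fun c hc => ?_ : upM L p W ≤ (upM L p' W).comap (upMap q hq W)) hz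
  rw [Ideal.mem_comap, Ideal.mem_comap, upMap_C]
  refine Ideal.mem_map_of_mem _ ((Art.mem_maximalIdeal_iff _ _).2 ?_)
  rw [Art.res_app]
  exact (Art.mem_maximalIdeal_iff _ _).1 hc

theorem covCof_map (W : Aff X) (l : C'' →ₗ[k] k) (z : Up L p W) :
    covCof W l (upMap q hq W z) = covCof W (l.comp q.toAlgHom.toLinearMap) z := covGet_ext L.𝒰 fun i => by
  rw [covGet_covCof, covGet_covCof, upT_map, cof_mapT]

theorem chi_map (hp : Art.IsSemismallExt p) (hp' : Art.IsSemismallExt p') (W : Aff X) (l : C'' →ₗ[k] k)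
    {z : Up L p W} (hz : upq L p W z = 0) :
    chi hp'.1 W l (upMap q hq W z) = chi hp.1 W (l.comp q.toAlgHom.toLinearMap) z := by
  obtain ⟨y, hy, h⟩ := exists_mem_upM hp.1 hz
  rw [chi_eq hp' l (upMap_mem q hq W hy) (by rw [upπ_map, upπ_map, h]), chi_eq hp _ hy h, ← map_sub, covCof_map]

/-- The image of a family of sections. -/
def Sec2.push (T : Sec2 L p) : Sec2 L p' where
  s j W h b := upMap q hq W (T.s j W h b)
  q j W h b := by rw [upq_map, T.q]
  add j W h a b := by
    rw [← map_add, ← map_sub]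
    exact upMap_mem q hq W (T.add j W h a b)
  mul j W h a b := by
    rw [← map_mul, ← map_sub]
    exact upMap_mem q hq W (T.mul j W h a b)
  str j W h t := by
    rw [← show q (algebraMap k C' t) = algebraMap k C'' t from q.toAlgHom.commutes t, ← upMap_C q hq, ← map_sub]
    exact upMap_mem q hq W (T.str j W h t)
  res j {V W} hVW h b := by
    rw [← upMap_res, ← map_sub]
    exact upMap_mem q hq V (T.res j hVW h b)

theorem theta_push [QuasiSeparated x] (hp : Art.IsSemismallExt p) (hp' : Art.IsSemismallExt p') (T : Sec2 L p)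
    (l : C'' →ₗ[k] k) : theta hp' (T.push q hq) l = theta hp T (l.comp q.toAlgHom.toLinearMap) := by
  refine H9DefExt.omega_hom_ext x fun U b => ?_
  rw [theta_app, theta_app]
  obtain ⟨z, hz⟩ := upq_surjective (L := L) hp.1 (toAff U) b
  rw [dfun_eq hp' (T.push q hq) l (z := upMap q hq (toAff U) z) ((upq_map q hq _ z).trans hz), dfun_eq hp T _ hz]
  refine congrArg _ (covGet_ext L.𝒰 fun j => ?_)
  rw [covGet_chiCov, covGet_chiCov, ← chi_map q hq hp hp' _ l (T.upq_diff hz j)]
  refine congrArg _ ?_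
  rw [Sec2.diff, Sec2.diff, map_sub, upMap_res]
  rfl

section Obs

variable {X : Scheme.{u}} [X.IsSeparated] [X.Over (Spec (CommRingCat.of k))]
variable [QuasiSeparated (X ↘ Spec (CommRingCat.of k))] [HasExt.{u} X.Modules]
variable [Smooth (X ↘ Spec (CommRingCat.of k))] [CompactSpace X]

variable (X) in
/-- Representative of a class. -/
def rep (u : (defFunctor (Λ := k) X (X ↘ Spec (CommRingCat.of k))).obj C) :
    DefSch X (X ↘ Spec (CommRingCat.of k)) C := (cl_surjective u).choose

theorem cl_rep (u : (defFunctor (Λ := k) X (X ↘ Spec (CommRingCat.of k))).obj C) : (rep X u).cl = u :=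
  (cl_surjective u).choose_spec

/-- The chosen local data. -/
def theLoc (ξ : DefSch X (X ↘ Spec (CommRingCat.of k)) C) : Loc ξ := (exists_loc ξ).some

/-- The chosen sections. -/
def theSec {ξ : DefSch X (X ↘ Spec (CommRingCat.of k)) C} {p : C' ⟶ C} (hp : Art.IsSemismallExt p) :
    Sec2 (theLoc ξ) p := (exists_sec2 hp).some

/-- The obstruction as a functional of the dual of the kernel. -/
def obJ (ξ : DefSch X (X ↘ Spec (CommRingCat.of k)) C) {p : C' ⟶ C} (hp : Art.IsSemismallExt p) :
    (↥(RingHom.ker p.toAlgHom) →ₗ[k] k) →ₗ[k]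
      Ext.{u} (Omega.sheaf (X ↘ Spec (CommRingCat.of k))) (Coh.structureModule X) 2 :=
  (ob hp (theSec (ξ := ξ) hp)).comp (LinearMap.lcomp k k (kerProj p))

theorem finite_ker (p : C' ⟶ C) : Module.Finite k ↥(RingHom.ker p.toAlgHom) :=
  haveI : IsNoetherian k C' := ArtFunLib.isNoetherian_base C'
  Module.Finite.of_injective (kerIncl p) Subtype.val_injective

/-- The basis of the kernel. -/
def kerBasis (p : C' ⟶ C) :
    Module.Basis (Fin (Module.finrank k ↥(RingHom.ker p.toAlgHom))) k ↥(RingHom.ker p.toAlgHom) :=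
  haveI := finite_ker p
  Module.finBasis k _

/-- The obstruction. -/
def obsClass (ξ : DefSch X (X ↘ Spec (CommRingCat.of k)) C) {p : C' ⟶ C} (hp : Art.IsSemismallExt p) :
    Ext.{u} (Omega.sheaf (X ↘ Spec (CommRingCat.of k))) (Coh.structureModule X) 2 ⊗[k] ↥(RingHom.ker p.toAlgHom) :=
  ∑ α, obJ ξ hp ((kerBasis p).coord α) ⊗ₜ[k] kerBasis p α

theorem obsClass_eq_zero_iff (ξ : DefSch X (X ↘ Spec (CommRingCat.of k)) C) {p : C' ⟶ C}
    (hp : Art.IsSemismallExt p) :
    obsClass ξ hp = 0 ↔ ∃ u', (defFunctor (Λ := k) X (X ↘ Spec (CommRingCat.of k))).map p u' = ξ.cl := by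
  constructor
  · intro h
    have h' : ∀ β, obJ ξ hp ((kerBasis p).coord β) = 0 := fun β => by
      have h2 := congrArg ((TensorProduct.rid k _).toLinearMap.comp
        (LinearMap.lTensor _ ((kerBasis p).coord β))) h
      rw [map_zero, obsClass, map_sum, Finset.sum_eq_single β] at h2
      · simpa using h2
      · intro α _ hα
        simp [Finsupp.single_eq_of_ne' hα]
      · exact fun h => absurd (Finset.mem_univ β) h
    choose η hη using fun β => (ob_eq_zero_iff hp (theSec (ξ := ξ) hp) _).1 (h' β)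
    exact exists_map_eq_of_coboundary (kerBasis p) hp (theSec (ξ := ξ) hp) η hη
  · rintro ⟨u', hu'⟩
    obtain ⟨ξ', rfl⟩ := cl_surjective u'
    obtain ⟨e⟩ := cl_eq_iff.1 hu'
    refine Finset.sum_eq_zero fun α _ => ?_
    rw [show obJ ξ hp ((kerBasis p).coord α) = 0 from
      (ob_eq_zero_iff hp (theSec (ξ := ξ) hp) _).2
        (exists_coboundary ((Ov.proj ξ' p).isoComp e.symm) hp (theSec (ξ := ξ) hp) _),
      TensorProduct.zero_tmul]

theorem obsClass_quot (ξ : DefSch X (X ↘ Spec (CommRingCat.of k)) C) {p : C' ⟶ C} (hp : Art.IsSemismallExt p)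
    {p' : C'' ⟶ C} (hp' : Art.IsSemismallExt p') (q : C' ⟶ C'') (hq : ∀ c, p' (q c) = p c)
    (f : ↥(RingHom.ker p.toAlgHom) →ₗ[k] ↥(RingHom.ker p'.toAlgHom)) (hf : ∀ j, (f j : C'') = q (j : C')) :
    obsClass ξ hp' = LinearMap.lTensor _ f (obsClass ξ hp) := by
  have key : ∀ μ : ↥(RingHom.ker p'.toAlgHom) →ₗ[k] k, obJ ξ hp' μ = obJ ξ hp (μ.comp f) := fun μ => by
    change ob hp' (theSec (ξ := ξ) hp') (μ.comp (kerProj p')) = ob hp (theSec (ξ := ξ) hp) ((μ.comp f).comp (kerProj p))
    rw [ob_eq hp' ((theSec (ξ := ξ) hp).push q hq) (theSec (ξ := ξ) hp'), ob_apply, theta_push q hq hp hp', ← ob_apply]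
    refine ob_congr hp _ fun c hc => ?_
    change μ (kerProj p' (q c)) = μ (f (kerProj p ((⟨c, hc⟩ : ↥(RingHom.ker p.toAlgHom)) : C')))
    rw [kerProj_apply]
    refine congrArg μ ?_
    rw [← show ((f ⟨c, hc⟩ : ↥(RingHom.ker p'.toAlgHom)) : C'') = q c from hf ⟨c, hc⟩, kerProj_apply]
  have hμ : ∀ β, ((kerBasis p').coord β).comp f =
      ∑ α, (kerBasis p').coord β (f (kerBasis p α)) • (kerBasis p).coord α := fun β => by
    refine (kerBasis p).ext fun γ => ?_
    simp only [LinearMap.comp_apply, LinearMap.sum_apply, LinearMap.smul_apply, smul_eq_mul]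
    rw [Finset.sum_eq_single γ]
    · rw [Module.Basis.coord_apply (kerBasis p) γ, (kerBasis p).repr_self, Finsupp.single_eq_same, mul_one]
    · intro α _ hα
      rw [Module.Basis.coord_apply (kerBasis p) α, (kerBasis p).repr_self, Finsupp.single_eq_of_ne hα, mul_zero]
    · exact fun h => absurd (Finset.mem_univ γ) h
  rw [obsClass, obsClass, map_sum]
  simp only [LinearMap.lTensor_tmul, key, hμ, map_sum, map_smul, TensorProduct.sum_tmul]
  rw [Finset.sum_comm]
  refine Finset.sum_congr rfl fun α _ => ?_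
  conv_rhs => rw [← (kerBasis p').sum_repr (f (kerBasis p α)), TensorProduct.tmul_sum]
  exact Finset.sum_congr rfl fun β _ => by
    rw [TensorProduct.tmul_smul, TensorProduct.smul_tmul', Module.Basis.coord_apply]

/-- The obstruction theory. -/
def obsTheory : ObsTheory (defFunctor (Λ := k) X (X ↘ Spec (CommRingCat.of k)))
    (Ext.{u} (Omega.sheaf (X ↘ Spec (CommRingCat.of k))) (Coh.structureModule X) 2) where
  obs _ hp u := obsClass (rep X u) hp
  obs_eq_zero_iff _ hp u := by rw [obsClass_eq_zero_iff, cl_rep]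
  obs_quot p hp K hK hKJ hq u :=
    obsClass_quot (rep X u) hp hq (Art.quotMk _ K hK) (fun _ => rfl) _ (fun _ => rfl)

end Obs

theorem hasObsTheory_map {F : Art k k ⥤ Type v} {V V' : Type u} [AddCommGroup V] [Module k V] [AddCommGroup V']
    [Module k V'] (e : V ≃ₗ[k] V') (h : ArtFun.HasObsTheory F V) : ArtFun.HasObsTheory F V' := by
  obtain ⟨T⟩ := h
  refine ⟨{ obs := fun p hp u => LinearMap.rTensor _ e.toLinearMap (T.obs p hp u)
            obs_eq_zero_iff := fun p hp u => ?_
            obs_quot := fun p hp K hK hKJ hq u => ?_ }⟩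
  · rw [← T.obs_eq_zero_iff p hp u]
    refine ⟨fun h => ?_, fun h => by rw [h, map_zero]⟩
    exact (LinearEquiv.rTensor _ e).injective (h.trans (map_zero _).symm)
  · rw [T.obs_quot p hp K hK hKJ hq u]
    exact (LinearMap.congr_fun ((LinearMap.rTensor_comp_lTensor _ e.toLinearMap _).trans
      (LinearMap.lTensor_comp_rTensor _ e.toLinearMap _).symm) _)

end Groth.Agent.H9DefObs
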