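import Groth.Agent.H9DefObs.Up
import Groth.Agent.H9DefExt.Fam

/-! The cocycle of the obstruction to lifting a deformation. -/

set_option autoImplicit false
set_option linter.style.haveILetI false
set_option backward.isDefEq.respectTransparency false
set_option backward.isDefEq.respectTransparency.types false

universe u

open CategoryTheory CategoryTheory.Limits AlgebraicGeometry TopologicalSpace Opposite ArtFun
open scoped TensorProduct
open Scheme (AffineZariskiSite)

noncomputable section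

namespace Groth.Agent.H9DefObs

open Groth.Agent.DefGlueLib

attribute [local instance] Abelian.hasFiniteBiproducts

variable {k : Type u} [Field k] {X : Scheme.{u}} [X.IsSeparated] {x : X ⟶ Art.specPt k} {C C' : Art k k}
variable {ξ : DefSch X x C} {L : Loc ξ} {p : C' ⟶ C}

variable (L) in
/-- The first quotient. -/
abbrev Q1 : X.Modules := qt L.𝒰 (Coh.structureModule X)

variable (L) in
/-- The second quotient. -/
abbrev Q2 : X.Modules := qt L.𝒰 (Q1 L)

/-- Sections as functions. -/
abbrev toG {V : X.Opens} (s : Sec x V) : Γ(X, V) := s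

open Classical in
/-- The class of the coordinates of an element over the closed fibre. -/
def chi (hp : Function.Surjective p) (W : Aff X) (l : C' →ₗ[k] k) (z : Up L p W) : Γ(Q1 L, W.1) :=
  if h : upq L p W z = 0 then
    (cokernel.π (toCov L.𝒰 (Coh.structureModule X))).app W.1 (covCof W l (z - (exists_mem_upM hp h).choose))
  else 0

theorem π_covCof_eq_zero (hp : Art.IsSemismallExt p) {W : Aff X} (l : C' →ₗ[k] k) {y : Up L p W}
    (hy : y ∈ upM L p W) (hy' : upπ L p W y = 0) :
    (cokernel.π (toCov L.𝒰 (Coh.structureModule X))).app W.1 (covCof W l y) = 0 := by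
  obtain ⟨b, hb⟩ := covCof_mem hp l hy hy'
  rw [← hb, π_toCov]

theorem chi_eq (hp : Art.IsSemismallExt p) {W : Aff X} (l : C' →ₗ[k] k) {z y : Up L p W}
    (hy : y ∈ upM L p W) (h : upπ L p W y = upπ L p W z) :
    chi hp.1 W l z = (cokernel.π (toCov L.𝒰 (Coh.structureModule X))).app W.1 (covCof W l (z - y)) := by
  have hq : upq L p W z = 0 := by
    rw [← upq_eq_zero_of_mem L p hy]
    exact congrArg (qD ξ W.1) h.symm
  rw [chi, dif_pos hq]
  obtain ⟨hy₀, h₀⟩ := (exists_mem_upM hp.1 hq).choose_spec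
  rw [← sub_eq_zero, ← map_sub, ← map_sub, sub_sub_sub_cancel_left]
  exact π_covCof_eq_zero hp l ((upM L p W).sub_mem hy hy₀) (by rw [map_sub, h, h₀, sub_self])

theorem chi_of_π_eq_zero (hp : Art.IsSemismallExt p) {W : Aff X} (l : C' →ₗ[k] k) {z : Up L p W}
    (hz : upπ L p W z = 0) :
    chi hp.1 W l z = (cokernel.π (toCov L.𝒰 (Coh.structureModule X))).app W.1 (covCof W l z) := by
  rw [chi_eq hp l (zero_mem (upM L p W)) (by rw [map_zero, hz]), sub_zero]

theorem chi_mem (hp : Art.IsSemismallExt p) {W : Aff X} (l : C' →ₗ[k] k) {z : Up L p W}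
    (hz : z ∈ upM L p W) : chi hp.1 W l z = 0 := by
  rw [chi_eq hp l hz rfl, sub_self, map_zero, map_zero]

theorem chi_add (hp : Art.IsSemismallExt p) {W : Aff X} (l : C' →ₗ[k] k) {z z' : Up L p W}
    (hz : upq L p W z = 0) (hz' : upq L p W z' = 0) :
    chi hp.1 W l (z + z') = chi hp.1 W l z + chi hp.1 W l z' := by
  obtain ⟨y, hy, h⟩ := exists_mem_upM hp.1 hz
  obtain ⟨y', hy', h'⟩ := exists_mem_upM hp.1 hz'
  rw [chi_eq hp l hy h, chi_eq hp l hy' h', chi_eq hp l ((upM L p W).add_mem hy hy') (by rw [map_add, map_add, h, h']),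
    ← map_add, ← map_add, add_sub_add_comm]

theorem chi_congr_mem (hp : Art.IsSemismallExt p) {W : Aff X} (l : C' →ₗ[k] k) {z z' : Up L p W}
    (hz : upq L p W z = 0) (h : z' - z ∈ upM L p W) : chi hp.1 W l z' = chi hp.1 W l z := by
  have h' := chi_add hp l hz (upq_eq_zero_of_mem L p h)
  rw [add_sub_cancel, chi_mem hp l h, add_zero] at h'
  exact h'

theorem chi_mul (hp : Art.IsSemismallExt p) {W : Aff X} (l : C' →ₗ[k] k) {z : Up L p W}
    (hz : upq L p W z = 0) (a : Up L p W) :
    chi hp.1 W l (z * a) = toG (upq L p W a) • chi hp.1 W l z := by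
  obtain ⟨y, hy, h⟩ := exists_mem_upM hp.1 hz
  rw [chi_eq hp l hy h, chi_eq hp l ((upM L p W).mul_mem_right a hy) (by rw [map_mul, map_mul, h]),
    ← sub_mul, covCof_mul hp l (by rw [map_sub, h, sub_self]) a]
  exact Scheme.Modules.Hom.app_smul ..

theorem chi_res (hp : Art.IsSemismallExt p) {V W : Aff X} (hVW : V ≤ W) (l : C' →ₗ[k] k) {z : Up L p W}
    (hz : upq L p W z = 0) : chi hp.1 V l (upRes L p hVW z) = resM (Q1 L) hVW (chi hp.1 W l z) := by
  obtain ⟨y, hy, h⟩ := exists_mem_upM hp.1 hz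
  rw [chi_eq hp l (upM_res L p hVW hy) (by rw [upπ_res, upπ_res, h]), chi_eq hp l hy h, ← map_sub, covCof_res,
    resM_app]

theorem chi_congr (hp : Art.IsSemismallExt p) {W : Aff X} {l l' : C' →ₗ[k] k} {z : Up L p W}
    (hz : upq L p W z = 0) (hl : ∀ c ∈ RingHom.ker p.toAlgHom, l c = l' c) :
    chi hp.1 W l z = chi hp.1 W l' z := by
  obtain ⟨y, hy, h⟩ := exists_mem_upM hp.1 hz
  rw [chi_eq hp l hy h, chi_eq hp l' hy h, covCof_congr hp.1 (by rw [map_sub, h, sub_self]) hl]

theorem chi_l_add (hp : Art.IsSemismallExt p) {W : Aff X} (l l' : C' →ₗ[k] k) {z : Up L p W}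
    (hz : upq L p W z = 0) : chi hp.1 W (l + l') z = chi hp.1 W l z + chi hp.1 W l' z := by
  obtain ⟨y, hy, h⟩ := exists_mem_upM hp.1 hz
  rw [chi_eq hp _ hy h, chi_eq hp _ hy h, chi_eq hp _ hy h, ← map_add]
  refine congrArg _ (covGet_ext L.𝒰 fun i => ?_)
  rw [map_add, covGet_covCof, covGet_covCof, covGet_covCof, cof_add]

theorem chi_l_smul (hp : Art.IsSemismallExt p) {W : Aff X} (r : k) (l : C' →ₗ[k] k) {z : Up L p W}
    (hz : upq L p W z = 0) :
    chi hp.1 W (r • l) z = toG (algebraMap k (Sec x W.1) r) • chi hp.1 W l z := by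
  obtain ⟨y, hy, h⟩ := exists_mem_upM hp.1 hz
  rw [chi_eq hp _ hy h, chi_eq hp _ hy h]
  refine (congrArg _ ?_).trans (Scheme.Modules.Hom.app_smul ..)
  refine covGet_ext L.𝒰 fun i => ?_
  rw [covGet_smul, covGet_covCof, covGet_covCof, cof_smul, Algebra.smul_def,
    ← (resS x (cutA_le_right (L.𝒰.U i) W)).commutes r]
  rfl

/-! ### Splittings of the twisted ring over the members -/

variable (L p) in
/-- Sections of the twisted ring over the members of the cover, up to the maximal ideal. -/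
structure Sec2 where
  /-- the representatives -/
  s : ∀ (j : L.𝒰.ι) (W : Aff X), W ≤ L.𝒰.U j → Sec x W.1 → Up L p W
  q : ∀ j W h b, upq L p W (s j W h b) = b
  add : ∀ j W h a b, s j W h (a + b) - (s j W h a + s j W h b) ∈ upM L p W
  mul : ∀ j W h a b, s j W h (a * b) - s j W h a * s j W h b ∈ upM L p W
  str : ∀ j W h t, s j W h (algebraMap k _ t) - upC L p W (algebraMap k C' t) ∈ upM L p W
  res : ∀ j {V W : Aff X} (hVW : V ≤ W) (h : W ≤ L.𝒰.U j) (b : Sec x W.1),
    s j V (hVW.trans h) (resS x hVW b) - upRes L p hVW (s j W h b) ∈ upM L p V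

theorem exists_sec2 [Smooth x] (hp : Art.IsSemismallExt p) : Nonempty (Sec2 L p) := by
  let A : Aff X → Type u := fun W => Up L p W ⧸ upM L p W
  let π : ∀ W, A W →+* Sec x W.1 := fun W =>
    Ideal.Quotient.lift _ (upq L p W) fun a ha => upq_eq_zero_of_mem L p ha
  let res : ∀ {V W : Aff X}, V ≤ W → (A W →+* A V) := fun {V W} h =>
    Ideal.Quotient.lift _ ((Ideal.Quotient.mk _).comp (upRes L p h)) fun a ha =>
      Ideal.Quotient.eq_zero_iff_mem.2 (upM_res L p h ha)
  have hsq : ∀ W (a b : A W), π W a = 0 → π W b = 0 → a * b = 0 := fun W a b ha hb => by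
    obtain ⟨a, rfl⟩ := Ideal.Quotient.mk_surjective a
    obtain ⟨b, rfl⟩ := Ideal.Quotient.mk_surjective b
    obtain ⟨y, hy, h⟩ := exists_mem_upM (L := L) hp.1 (z := a) ha
    have h0 : (a - y) * b = 0 := up_ext (by rw [map_mul, map_sub, h, sub_self, zero_mul, map_zero]) fun i =>
      eq_zero_of_cof _ (fun l => by
        rw [map_mul, cof_mul p hp _ l (mapT_upT_eq_zero (by rw [map_sub, h, sub_self]) i), redT_upT,
          show upq L p W b = 0 from hb, map_zero, mul_zero]) |>.trans (map_zero _).symm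
    rw [← map_mul, Ideal.Quotient.eq_zero_iff_mem, show a * b = y * b + (a - y) * b by ring, h0, add_zero]
    exact (upM L p W).mul_mem_right _ hy
  have ex := fun j => exists_lifts (x := x) (L.𝒰.U j) A (fun W => Sec x W.1) res
    (fun {V W} h => (resS x h).toRingHom)
    (fun {V₁ V₂ V₃} h₁ h₂ a => by
      obtain ⟨a, rfl⟩ := Ideal.Quotient.mk_surjective a
      exact congrArg (Ideal.Quotient.mk _) (upRes_res L p h₁ h₂ a))
    π (fun {V W} h a => by
      obtain ⟨a, rfl⟩ := Ideal.Quotient.mk_surjective a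
      exact upq_res L p h a)
    (fun W _ b => by
      obtain ⟨z, hz⟩ := upq_surjective (L := L) hp.1 W b
      exact ⟨Ideal.Quotient.mk _ z, hz⟩)
    (fun W _ => ⟨2, le_bot_iff.1 (by
      rw [pow_two, Ideal.mul_le]
      exact fun a ha b hb => Ideal.mem_bot.2 (hsq W a b ha hb))⟩)
    (fun W => ((Ideal.Quotient.mk _).comp (upC L p W)).comp (algebraMap k C'))
    (fun {V W} h t => congrArg (Ideal.Quotient.mk _) (upRes_C L p h _))
    (fun W _ => RingHom.id _) (fun {V W} h hW b => rfl)
    (fun W hW t => ((upq_C L p W _).trans (congrArg _ (C'.res.commutes t))).symm)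
  choose σ hσ hσc hσr using ex
  choose s hs using fun j W h b => Ideal.Quotient.mk_surjective (I := upM L p W) (σ j W h b)
  refine ⟨{ s := s, q := fun j W h b => ?_, add := fun j W h a b => ?_, mul := fun j W h a b => ?_,
            str := fun j W h t => ?_, res := fun j V W hVW h b => ?_ }⟩
  · exact (congrArg (π W) (hs j W h b)).trans (hσ j W h b)
  · exact Ideal.Quotient.eq.1 ((hs j W h (a + b)).trans ((map_add (σ j W h) a b).trans
      ((congrArg₂ (· + ·) (hs j W h a) (hs j W h b)).symm.trans (map_add _ _ _).symm)))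
  · exact Ideal.Quotient.eq.1 ((hs j W h (a * b)).trans ((map_mul (σ j W h) a b).trans
      ((congrArg₂ (· * ·) (hs j W h a) (hs j W h b)).symm.trans (map_mul _ _ _).symm)))
  · exact Ideal.Quotient.eq.1 ((hs j W h _).trans (hσc j W h t))
  · exact Ideal.Quotient.eq.1 ((hs j V _ _).trans ((hσr j hVW h b).trans (congrArg (res hVW) (hs j W h b)).symm))

/-- The tuple of classes over the members. -/
def chiCov (hp : Function.Surjective p) (W : Aff X) (l : C' →ₗ[k] k) (z : ∀ j, Up L p (L.cV j W)) :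
    Γ(cov L.𝒰 (Q1 L), W.1) :=
  covMk L.𝒰 _ W.1 fun j => chi hp (L.cV j W) l (z j)

theorem covGet_chiCov (hp : Function.Surjective p) (W : Aff X) (l : C' →ₗ[k] k) (z : ∀ j, Up L p (L.cV j W))
    (j : L.𝒰.ι) : covGet L.𝒰 _ W.1 j (chiCov hp W l z) = chi hp (L.cV j W) l (z j) :=
  covGet_covMk _ _ _ _ _

/-- The difference between a member's section and a global representative. -/
def Sec2.diff (T : Sec2 L p) (W : Aff X) (b : Sec x W.1) (z : Up L p W) (j : L.𝒰.ι) : Up L p (L.cV j W) :=
  T.s j (L.cV j W) (cutA_le_left _ _) (resS x (cutA_le_right (L.𝒰.U j) W) b) -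
    upRes L p (cutA_le_right (L.𝒰.U j) W) z

theorem Sec2.upq_diff (T : Sec2 L p) {W : Aff X} {b : Sec x W.1} {z : Up L p W} (hz : upq L p W z = b)
    (j : L.𝒰.ι) : upq L p _ (T.diff W b z j) = 0 := by
  rw [Sec2.diff, map_sub, T.q, upq_res, hz, sub_self]

variable (hp : Art.IsSemismallExt p) (T : Sec2 L p) (l : C' →ₗ[k] k)

theorem π_chiCov_congr {W : Aff X} {b : Sec x W.1} {z z' : Up L p W} (hz : upq L p W z = b)
    (hz' : upq L p W z' = b) :
    (cokernel.π (toCov L.𝒰 (Q1 L))).app W.1 (chiCov hp.1 W l (T.diff W b z)) =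
      (cokernel.π (toCov L.𝒰 (Q1 L))).app W.1 (chiCov hp.1 W l (T.diff W b z')) := by
  rw [← sub_eq_zero, ← map_sub]
  have h : chiCov hp.1 W l (T.diff W b z) - chiCov hp.1 W l (T.diff W b z') =
      (toCov L.𝒰 (Q1 L)).app W.1 (chi hp.1 W l (z' - z)) := covGet_ext L.𝒰 fun j => by
    rw [map_sub, covGet_chiCov, covGet_chiCov, covGet_toCov, sub_eq_iff_eq_add]
    have hd : upq L p W (z' - z) = 0 := by rw [map_sub, hz, hz', sub_self]
    refine Eq.trans ?_ (congrArg (· + _) (chi_res hp (cutA_le_right (L.𝒰.U j) W) l hd))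
    rw [← chi_add hp l (by rw [upq_res, hd, map_zero]) (T.upq_diff hz' j)]
    refine congrArg _ ?_
    rw [Sec2.diff, Sec2.diff, map_sub]
    abel
  rw [h, π_toCov]

/-- The cocycle on exact forms. -/
def dfun (W : Aff X) (b : Sec x W.1) : Γ(Q2 L, W.1) :=
  (cokernel.π (toCov L.𝒰 (Q1 L))).app W.1
    (chiCov hp.1 W l (T.diff W b (upq_surjective (L := L) hp.1 W b).choose))

theorem dfun_eq {W : Aff X} {b : Sec x W.1} {z : Up L p W} (hz : upq L p W z = b) :
    dfun hp T l W b = (cokernel.π (toCov L.𝒰 (Q1 L))).app W.1 (chiCov hp.1 W l (T.diff W b z)) :=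
  π_chiCov_congr hp T l (upq_surjective (L := L) hp.1 W b).choose_spec hz

theorem chi_diff_add {W : Aff X} {a b : Sec x W.1} {za zb : Up L p W} (ha : upq L p W za = a)
    (hb : upq L p W zb = b) (j : L.𝒰.ι) :
    chi hp.1 _ l (T.diff W (a + b) (za + zb) j) =
      chi hp.1 _ l (T.diff W a za j) + chi hp.1 _ l (T.diff W b zb j) := by
  rw [← chi_add hp l (T.upq_diff ha j) (T.upq_diff hb j)]
  refine chi_congr_mem hp l (by rw [map_add, T.upq_diff ha j, T.upq_diff hb j, add_zero]) ?_
  convert T.add j (L.cV j W) (cutA_le_left _ _) (resS x (cutA_le_right (L.𝒰.U j) W) a)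
    (resS x (cutA_le_right (L.𝒰.U j) W) b) using 1
  rw [Sec2.diff, Sec2.diff, Sec2.diff, map_add, map_add]
  abel

theorem chi_diff_mul {W : Aff X} {a b : Sec x W.1} {za zb : Up L p W} (ha : upq L p W za = a)
    (hb : upq L p W zb = b) (j : L.𝒰.ι) :
    chi hp.1 _ l (T.diff W (a * b) (za * zb) j) =
      toG (resS x (cutA_le_right (L.𝒰.U j) W) a) • chi hp.1 _ l (T.diff W b zb j) +
      toG (resS x (cutA_le_right (L.𝒰.U j) W) b) • chi hp.1 _ l (T.diff W a za j) := by
  have h1 := chi_mul hp l (T.upq_diff hb j) (upRes L p (cutA_le_right (L.𝒰.U j) W) za)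
  rw [upq_res, ha] at h1
  have h2 := chi_mul hp l (T.upq_diff ha j)
    (T.s j (L.cV j W) (cutA_le_left _ _) (resS x (cutA_le_right (L.𝒰.U j) W) b))
  rw [T.q] at h2
  rw [← h1, ← h2, ← chi_add hp l (by rw [map_mul, T.upq_diff hb j, zero_mul])
    (by rw [map_mul, T.upq_diff ha j, zero_mul])]
  refine chi_congr_mem hp l (by rw [map_add, map_mul, map_mul, T.upq_diff hb j, T.upq_diff ha j, zero_mul,
    zero_mul, add_zero]) ?_
  convert T.mul j (L.cV j W) (cutA_le_left _ _) (resS x (cutA_le_right (L.𝒰.U j) W) a)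
    (resS x (cutA_le_right (L.𝒰.U j) W) b) using 1
  rw [Sec2.diff, Sec2.diff, Sec2.diff, map_mul, map_mul]
  ring

theorem chi_diff_str {W : Aff X} (t : k) (j : L.𝒰.ι) :
    chi hp.1 _ l (T.diff W (algebraMap k _ t) (upC L p W (algebraMap k C' t)) j) = 0 := by
  refine chi_mem hp l ?_
  rw [Sec2.diff, upRes_C, AlgHom.commutes]
  exact T.str j _ _ t

theorem chi_diff_res {V W : Aff X} (h : V ≤ W) {b : Sec x W.1} {z : Up L p W} (hz : upq L p W z = b)
    (j : L.𝒰.ι) :
    chi hp.1 _ l (T.diff V (resS x h b) (upRes L p h z) j) =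
      resM (Q1 L) (cutA_mono (L.𝒰.U j) h) (chi hp.1 _ l (T.diff W b z j)) := by
  rw [← chi_res hp (cutA_mono (L.𝒰.U j) h) l (T.upq_diff hz j)]
  refine chi_congr_mem hp l (by rw [upq_res, T.upq_diff hz j, map_zero]) ?_
  have e := T.res j (cutA_mono (L.𝒰.U j) h) (cutA_le_left _ _) (resS x (cutA_le_right (L.𝒰.U j) W) b)
  rw [resS_resS] at e
  rw [Sec2.diff, Sec2.diff, map_sub, upRes_res, upRes_res, resS_resS, sub_sub_sub_cancel_right]
  exact e

/-- The affine open of a member of the site. -/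
abbrev toAff (U : AffineZariskiSite X) : Aff X := ⟨U.toOpens, U.2⟩

theorem algebraMap_eq_str (U : AffineZariskiSite X) (t : k) :
    (algebraMap k (Sec x (toAff U).1) t : Γ(X, U.toOpens)) = str x U t := rfl

/-- The cocycle as a family of derivations. -/
def thetaFam : H9DefExt.ModFam x (Q2 L) where
  D U b := dfun hp T l (toAff U) b
  add U a b := by
    obtain ⟨za, ha⟩ := upq_surjective (L := L) hp.1 (toAff U) a
    obtain ⟨zb, hb⟩ := upq_surjective (L := L) hp.1 (toAff U) b
    refine (dfun_eq hp T l (z := za + zb) ((map_add _ za zb).trans (congrArg₂ (· + ·) ha hb))).trans ?_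
    rw [dfun_eq hp T l ha, dfun_eq hp T l hb, ← map_add]
    refine congrArg _ (covGet_ext L.𝒰 fun j => ?_)
    rw [map_add, covGet_chiCov, covGet_chiCov, covGet_chiCov]
    refine Eq.trans ?_ (chi_diff_add hp T l ha hb j)
    rfl
  map {U V} h b := by
    have h' : toAff V ≤ toAff U := AffineZariskiSite.toOpens_mono h
    obtain ⟨z, hz⟩ := upq_surjective (L := L) hp.1 (toAff U) b
    refine (dfun_eq hp T l (z := upRes L p h' z) ((upq_res L p h' z).trans (congrArg _ hz))).trans ?_
    rw [dfun_eq hp T l hz]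
    refine Eq.trans ?_ (resM_app (cokernel.π (toCov L.𝒰 (Q1 L))) h' _).symm
    refine congrArg _ (covGet_ext L.𝒰 fun j => ?_)
    rw [covGet_chiCov, covGet_res, covGet_chiCov]
    exact chi_diff_res hp T l h' hz j
  mul U a b := by
    obtain ⟨za, ha⟩ := upq_surjective (L := L) hp.1 (toAff U) a
    obtain ⟨zb, hb⟩ := upq_surjective (L := L) hp.1 (toAff U) b
    refine (dfun_eq hp T l (z := za * zb) ((map_mul _ za zb).trans (congrArg₂ (· * ·) ha hb))).trans ?_
    rw [dfun_eq hp T l ha, dfun_eq hp T l hb]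
    erw [← Scheme.Modules.Hom.app_smul, ← Scheme.Modules.Hom.app_smul, ← map_add]
    refine congrArg _ (covGet_ext L.𝒰 fun j => ?_)
    erw [map_add, covGet_smul, covGet_smul, covGet_chiCov, covGet_chiCov, covGet_chiCov]
    exact chi_diff_mul hp T l ha hb j
  str U t := by
    refine (dfun_eq hp T l (z := upC L p (toAff U) (algebraMap k C' t))
      ((upq_C L p _ _).trans (congrArg _ (C'.res.commutes t)))).trans ?_
    refine Eq.trans (congrArg _ (covGet_ext L.𝒰 fun j => ?_)) (map_zero _)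
    rw [covGet_chiCov, map_zero]
    exact chi_diff_str hp T l t j

variable [QuasiSeparated x]

/-- The cocycle. -/
def theta : Omega.sheaf x ⟶ Q2 L := (thetaFam hp T l).exists_hom.choose

theorem theta_app (U : AffineZariskiSite X) (b : Γ(X, U.toOpens)) :
    (theta hp T l).app U.toOpens ((OmegaSh.dOmega x).app U.toOpens b) = dfun hp T l (toAff U) b :=
  (thetaFam hp T l).exists_hom.choose_spec U b

/-- Another choice of sections changes the cocycle by a coboundary. -/
theorem exists_theta_eq (T' : Sec2 L p) :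
    ∃ η : Omega.sheaf x ⟶ cov L.𝒰 (Q1 L), theta hp T' l = theta hp T l + η ≫ cokernel.π (toCov L.𝒰 (Q1 L)) := by
  let z₀ : ∀ (W : Aff X) (b : Sec x W.1), Up L p W := fun W b => (upq_surjective (L := L) hp.1 W b).choose
  have hz₀ : ∀ W b, upq L p W (z₀ W b) = b := fun W b => (upq_surjective (L := L) hp.1 W b).choose_spec
  let f : ∀ (W : Aff X), Sec x W.1 → Γ(cov L.𝒰 (Q1 L), W.1) := fun W b =>
    chiCov hp.1 W l (T'.diff W b (z₀ W b)) - chiCov hp.1 W l (T.diff W b (z₀ W b))
  have hf : ∀ W b (z : Up L p W), upq L p W z = b →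
      f W b = chiCov hp.1 W l (T'.diff W b z) - chiCov hp.1 W l (T.diff W b z) := fun W b z hz =>
    covGet_ext L.𝒰 fun j => by
      rw [map_sub, map_sub, covGet_chiCov, covGet_chiCov, covGet_chiCov, covGet_chiCov]
      have h1 : upq L p _ (upRes L p (cutA_le_right (L.𝒰.U j) W) (z - z₀ W b)) = 0 := by
        rw [upq_res, map_sub, hz, hz₀, sub_self, map_zero]
      have key : ∀ (S : Sec2 L p), chi hp.1 _ l (S.diff W b (z₀ W b) j) = chi hp.1 _ l (S.diff W b z j) +
          chi hp.1 _ l (upRes L p (cutA_le_right (L.𝒰.U j) W) (z - z₀ W b)) := fun S => by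
        rw [← chi_add hp l (S.upq_diff hz j) h1]
        refine congrArg _ ?_
        rw [Sec2.diff, Sec2.diff, map_sub]
        abel
      rw [key T', key T]
      abel
  let E : H9DefExt.ModFam x (cov L.𝒰 (Q1 L)) :=
    { D := fun U b => f (toAff U) b
      add := fun U a b => by
        refine (hf _ _ (z₀ (toAff U) a + z₀ (toAff U) b)
          ((map_add _ _ _).trans (congrArg₂ (· + ·) (hz₀ _ a) (hz₀ _ b)))).trans ?_
        refine covGet_ext L.𝒰 fun j => ?_
        rw [map_sub, map_add, covGet_chiCov, covGet_chiCov, map_sub, map_sub, covGet_chiCov, covGet_chiCov,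
          covGet_chiCov, covGet_chiCov]
        erw [chi_diff_add hp T' l (hz₀ (toAff U) a) (hz₀ (toAff U) b) j,
          chi_diff_add hp T l (hz₀ (toAff U) a) (hz₀ (toAff U) b) j]
        abel
      map := fun {U V} h b => by
        have h' : toAff V ≤ toAff U := AffineZariskiSite.toOpens_mono h
        refine (hf _ _ (upRes L p h' (z₀ (toAff U) b)) ((upq_res L p h' _).trans (congrArg _ (hz₀ _ b)))).trans ?_
        refine covGet_ext L.𝒰 fun j => ?_
        erw [covGet_res L.𝒰 _ h' j (f (toAff U) b)]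
        rw [map_sub, map_sub, map_sub, covGet_chiCov, covGet_chiCov, covGet_chiCov, covGet_chiCov]
        erw [chi_diff_res hp T' l h' (hz₀ (toAff U) b) j, chi_diff_res hp T l h' (hz₀ (toAff U) b) j]
      mul := fun U a b => by
        refine (hf _ _ (z₀ (toAff U) a * z₀ (toAff U) b)
          ((map_mul _ _ _).trans (congrArg₂ (· * ·) (hz₀ _ a) (hz₀ _ b)))).trans ?_
        refine covGet_ext L.𝒰 fun j => ?_
        rw [map_sub, map_add, covGet_chiCov, covGet_chiCov]
        erw [covGet_smul, covGet_smul]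
        rw [map_sub, map_sub, covGet_chiCov, covGet_chiCov, covGet_chiCov, covGet_chiCov, smul_sub, smul_sub]
        erw [chi_diff_mul hp T' l (hz₀ (toAff U) a) (hz₀ (toAff U) b) j,
          chi_diff_mul hp T l (hz₀ (toAff U) a) (hz₀ (toAff U) b) j]
        exact add_sub_add_comm ..
      str := fun U t => by
        refine (hf _ _ (upC L p (toAff U) (algebraMap k C' t))
          ((upq_C L p _ _).trans (congrArg _ (C'.res.commutes t)))).trans ?_
        refine covGet_ext L.𝒰 fun j => ?_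
        rw [map_sub, covGet_chiCov, covGet_chiCov, map_zero]
        erw [chi_diff_str hp T' l t j, chi_diff_str hp T l t j]
        exact sub_self _ }
  obtain ⟨η, hη⟩ := E.exists_hom
  refine ⟨η, H9DefExt.omega_hom_ext x fun U b => ?_⟩
  rw [theta_app, Scheme.Modules.Hom.add_app]
  change _ = (theta hp T l).app U.toOpens _ + (cokernel.π (toCov L.𝒰 (Q1 L))).app U.toOpens (η.app U.toOpens _)
  rw [theta_app, hη, dfun_eq hp T' l (hz₀ (toAff U) b), dfun_eq hp T l (hz₀ (toAff U) b), ← sub_eq_iff_eq_add',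
    ← map_sub]

theorem theta_add (l' : C' →ₗ[k] k) : theta hp T (l + l') = theta hp T l + theta hp T l' := by
  refine H9DefExt.omega_hom_ext x fun U b => ?_
  rw [theta_app, Scheme.Modules.Hom.add_app]
  change _ = (theta hp T l).app U.toOpens _ + (theta hp T l').app U.toOpens _
  rw [theta_app, theta_app]
  obtain ⟨z, hz⟩ := upq_surjective (L := L) hp.1 (toAff U) b
  rw [dfun_eq hp T _ hz, dfun_eq hp T l hz, dfun_eq hp T l' hz, ← map_add]
  refine congrArg _ (covGet_ext L.𝒰 fun j => ?_)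
  rw [map_add, covGet_chiCov, covGet_chiCov, covGet_chiCov, chi_l_add hp l l' (T.upq_diff hz j)]

theorem theta_congr {l' : C' →ₗ[k] k} (h : ∀ c ∈ RingHom.ker p.toAlgHom, l c = l' c) :
    theta hp T l = theta hp T l' := by
  refine H9DefExt.omega_hom_ext x fun U b => ?_
  rw [theta_app, theta_app]
  obtain ⟨z, hz⟩ := upq_surjective (L := L) hp.1 (toAff U) b
  rw [dfun_eq hp T _ hz, dfun_eq hp T l' hz]
  refine congrArg _ (covGet_ext L.𝒰 fun j => ?_)
  rw [covGet_chiCov, covGet_chiCov, chi_congr hp (T.upq_diff hz j) h]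

end Groth.Agent.H9DefObs
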