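import Groth.Agent.H9DefObs.Split
import Groth.Agent.H9DefObs.Cov
import Groth.Agent.QCoh.VanIdeal
import Groth.Agent.ArtFunLib.Basic

/-! The liftings of a deformation twisted by the functions on a cover. -/

set_option autoImplicit false
set_option linter.style.haveILetI false
set_option backward.isDefEq.respectTransparency false
set_option backward.isDefEq.respectTransparency.types false

universe u

open CategoryTheory CategoryTheory.Limits AlgebraicGeometry TopologicalSpace Opposite ArtFun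
open scoped TensorProduct

noncomputable section

namespace Groth.Agent.H9DefObs

open Groth.Agent.DefGlueLib

attribute [local instance] Abelian.hasFiniteBiproducts

variable {k : Type u} [Field k] {X : Scheme.{u}} [X.IsSeparated] {x : X ⟶ Art.specPt k} {C C' : Art k k}

/-- A cover with splittings of a deformation. -/
structure Loc (ξ : DefSch X x C) : Type (u + 1) where
  /-- the cover -/
  𝒰 : FinCover X
  /-- the splittings -/
  S : ∀ i, Split ξ (𝒰.U i)

theorem exists_loc [Smooth x] [CompactSpace X] (ξ : DefSch X x C) : Nonempty (Loc ξ) := by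
  obtain ⟨𝒰⟩ := exists_finCover X
  exact ⟨⟨𝒰, fun i => (exists_split ξ (𝒰.U i)).some⟩⟩

variable {ξ : DefSch X x C} (L : Loc ξ) (p : C' ⟶ C)

/-- The part of `W` in a member. -/
abbrev Loc.cV (i : L.𝒰.ι) (W : Aff X) : Aff X := cutA (L.𝒰.U i) W

/-- The ambient ring. -/
abbrev Amb (W : Aff X) : Type u := DSec ξ W.1 × (∀ i, TSec x C' (L.cV i W).1)

/-- The two maps to be equalized. -/
def upF (W : Aff X) : Amb (C' := C') L W →+* (∀ i, DSec ξ (L.cV i W).1) :=
  RingHom.pi fun i => (((L.S i).tmap (L.cV i W) (cutA_le_left _ _)).toRingHom.comp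
    (mapT p (L.cV i W).1).toRingHom).comp ((Pi.evalRingHom _ i).comp (RingHom.snd _ _))

/-- The two maps to be equalized. -/
def upG (W : Aff X) : Amb (C' := C') L W →+* (∀ i, DSec ξ (L.cV i W).1) :=
  RingHom.pi fun i => (resD ξ (cutA_le_right (L.𝒰.U i) W)).comp (RingHom.fst _ _)

/-- A section with lifts over the cover. -/
def Up (W : Aff X) : Subring (Amb (C' := C') L W) := RingHom.eqLocus (upF L p W) (upG L W)

variable {L p}

theorem mem_up {W : Aff X} {a : Amb (C' := C') L W} :
    a ∈ Up L p W ↔ ∀ i, (L.S i).tmap (L.cV i W) (cutA_le_left _ _) (mapT p _ (a.2 i)) =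
      resD ξ (cutA_le_right (L.𝒰.U i) W) a.1 :=
  funext_iff

variable (L p)

/-- The projection. -/
def upπ (W : Aff X) : Up L p W →+* DSec ξ W.1 := (RingHom.fst _ _).comp (Up L p W).subtype

/-- The reduction. -/
def upq (W : Aff X) : Up L p W →+* Sec x W.1 := (qD ξ W.1).comp (upπ L p W)

/-- The lifts. -/
def upT (W : Aff X) (i : L.𝒰.ι) : Up L p W →+* TSec x C' (L.cV i W).1 :=
  ((Pi.evalRingHom _ i).comp (RingHom.snd _ _)).comp (Up L p W).subtype

variable {L p}

theorem up_spec {W : Aff X} (z : Up L p W) (i : L.𝒰.ι) :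
    (L.S i).tmap (L.cV i W) (cutA_le_left _ _) (mapT p _ (upT L p W i z)) =
      resD ξ (cutA_le_right (L.𝒰.U i) W) (upπ L p W z) :=
  mem_up.1 z.2 i

theorem up_ext {W : Aff X} {a b : Up L p W} (h₁ : upπ L p W a = upπ L p W b)
    (h₂ : ∀ i, upT L p W i a = upT L p W i b) : a = b :=
  Subtype.ext (Prod.ext h₁ (funext h₂))

theorem redT_upT {W : Aff X} (z : Up L p W) (i : L.𝒰.ι) :
    redT x C' _ (upT L p W i z) = resS x (cutA_le_right (L.𝒰.U i) W) (upq L p W z) := by
  rw [← redT_mapT p, ← (L.S i).qD_tmap (L.cV i W) (cutA_le_left _ _), up_spec, qD_resD]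
  rfl

variable (L p)

/-- Restriction. -/
def upRes {V W : Aff X} (h : V ≤ W) : Up L p W →+* Up L p V :=
  ((((resD ξ h).comp (RingHom.fst _ _)).prod (RingHom.pi fun i =>
      ((resT (x := x) (C := C') (cutA_mono (L.𝒰.U i) h)).toRingHom).comp ((Pi.evalRingHom _ i).comp (RingHom.snd _ _)))).comp
      (Up L p W).subtype).codRestrict _ fun z => mem_up.2 fun i => by
    change (L.S i).tmap (L.cV i V) _ (mapT p _ (resT _ (upT L p W i z))) = resD ξ _ (resD ξ h (upπ L p W z))
    rw [mapT_resT, resD_resD]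
    refine ((L.S i).tmap_resT (cutA_mono (L.𝒰.U i) h) (cutA_le_left (L.𝒰.U i) W) _).trans ?_
    rw [up_spec, resD_resD]

theorem upπ_res {V W : Aff X} (h : V ≤ W) (z : Up L p W) :
    upπ L p V (upRes L p h z) = resD ξ h (upπ L p W z) := rfl

theorem upT_res {V W : Aff X} (h : V ≤ W) (z : Up L p W) (i : L.𝒰.ι) :
    upT L p V i (upRes L p h z) = resT (cutA_mono (L.𝒰.U i) h) (upT L p W i z) := rfl

theorem upq_res {V W : Aff X} (h : V ≤ W) (z : Up L p W) :
    upq L p V (upRes L p h z) = resS x h (upq L p W z) :=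
  qD_resD ξ h _

theorem upRes_res {V₁ V₂ V₃ : Aff X} (h₁ : V₁ ≤ V₂) (h₂ : V₂ ≤ V₃) (z : Up L p V₃) :
    upRes L p h₁ (upRes L p h₂ z) = upRes L p (h₁.trans h₂) z := by
  refine up_ext ?_ fun i => ?_
  · rw [upπ_res, upπ_res, upπ_res, resD_resD]
  · rw [upT_res, upT_res, upT_res, resT_resT]

/-- The structure map. -/
def upC (W : Aff X) : C' →+* Up L p W :=
  (((secD ξ W.1).comp p.toAlgHom.toRingHom).prod
    (RingHom.pi fun i => (Algebra.TensorProduct.includeLeftRingHom :
      C' →+* TSec x C' (L.cV i W).1))).codRestrict _ fun c => mem_up.2 fun i => by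
    change (L.S i).tmap (L.cV i W) _ (mapT p _ (c ⊗ₜ[k] (1 : Sec x _))) = resD ξ _ (secD ξ W.1 (p c))
    rw [mapT_tmul, (L.S i).tmap_tmul, resD_secD, map_one, mul_one]

theorem upπ_C (W : Aff X) (c : C') : upπ L p W (upC L p W c) = secD ξ W.1 (p c) := rfl

theorem upT_C (W : Aff X) (c : C') (i : L.𝒰.ι) : upT L p W i (upC L p W c) = c ⊗ₜ[k] (1 : Sec x _) := rfl

theorem upq_C (W : Aff X) (c : C') : upq L p W (upC L p W c) = algebraMap k _ (C'.res c) := by
  change qD ξ W.1 (secD ξ W.1 (p c)) = _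
  rw [qD_secD, Art.res_app]

theorem upRes_C {V W : Aff X} (h : V ≤ W) (c : C') : upRes L p h (upC L p W c) = upC L p V c := by
  refine up_ext ?_ fun i => ?_
  · rw [upπ_res, upπ_C, upπ_C, resD_secD]
  · rw [upT_res, upT_C, upT_C, resT_tmul, map_one]

variable {L p}

theorem exists_upLift (hp : Function.Surjective p) (W : Aff X) (r : DSec ξ W.1) :
    ∃ z : Up L p W, upπ L p W z = r := by
  choose u hu using fun i => ((L.S i).tmap_bijective (L.cV i W) (cutA_le_left _ _)).2
    (resD ξ (cutA_le_right (L.𝒰.U i) W) r)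
  choose t ht using fun i => mapT_surjective (x := x) p hp (L.cV i W).1 (u i)
  exact ⟨⟨(r, t), mem_up.2 fun i => by rw [ht, hu]⟩, rfl⟩

theorem upq_surjective (hp : Function.Surjective p) (W : Aff X) : Function.Surjective (upq L p W) := fun b => by
  obtain ⟨r, hr⟩ := (isDefD ξ W).surjective b
  obtain ⟨z, hz⟩ := exists_upLift (L := L) hp W r
  exact ⟨z, by rw [← hr, ← hz]; rfl⟩

theorem mapT_upT_eq_zero {W : Aff X} {z : Up L p W} (hz : upπ L p W z = 0) (i : L.𝒰.ι) :
    mapT p _ (upT L p W i z) = 0 :=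
  ((L.S i).tmap_bijective (L.cV i W) (cutA_le_left _ _)).1 (by rw [up_spec, hz, map_zero, map_zero])

theorem exists_ker {W : Aff X} (t : ∀ i, TSec x C' (L.cV i W).1) (ht : ∀ i, mapT p _ (t i) = 0) :
    ∃ z : Up L p W, upπ L p W z = 0 ∧ ∀ i, upT L p W i z = t i :=
  ⟨⟨(0, t), mem_up.2 fun i => by rw [ht, map_zero, map_zero]⟩, rfl, fun _ => rfl⟩

variable (L p)

/-- The ideal generated by the maximal ideal of the base. -/
def upM (W : Aff X) : Ideal (Up L p W) := (IsLocalRing.maximalIdeal C').map (upC L p W)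

theorem upq_eq_zero_of_mem {W : Aff X} {y : Up L p W} (hy : y ∈ upM L p W) : upq L p W y = 0 := by
  refine (Ideal.map_le_iff_le_comap.2 fun c hc => ?_ : upM L p W ≤ RingHom.ker (upq L p W)) hy
  rw [Ideal.mem_comap, RingHom.mem_ker, upq_C, (Art.mem_maximalIdeal_iff _ _).1 hc, map_zero]

theorem upM_res {V W : Aff X} (h : V ≤ W) {y : Up L p W} (hy : y ∈ upM L p W) :
    upRes L p h y ∈ upM L p V := by
  refine (Ideal.map_le_iff_le_comap.2 fun c hc => ?_ : upM L p W ≤ (upM L p V).comap (upRes L p h)) hy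
  rw [Ideal.mem_comap, Ideal.mem_comap, upRes_C]
  exact Ideal.mem_map_of_mem _ hc

variable {L p}

theorem exists_mem_upM (hp : Function.Surjective p) {W : Aff X} {z : Up L p W} (hz : upq L p W z = 0) :
    ∃ y ∈ upM L p W, upπ L p W y = upπ L p W z := by
  have hπ : Function.Surjective (upπ L p W) := exists_upLift hp W
  have h1 : upπ L p W z ∈ (upM L p W).map (upπ L p W) := by
    rw [upM, Ideal.map_map]
    refine ?_
    have h2 : upπ L p W z ∈ RingHom.ker (qD ξ W.1) := hz
    refine (?_ : RingHom.ker (qD ξ W.1) ≤ _) h2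
    refine (ker_qD_le ξ W).trans (Ideal.map_le_iff_le_comap.2 fun c hc => ?_)
    obtain ⟨c', rfl⟩ := hp c
    have hc' : c' ∈ IsLocalRing.maximalIdeal C' := by
      rw [Art.mem_maximalIdeal_iff, ← Art.res_app p]
      exact (Art.mem_maximalIdeal_iff _ _).1 hc
    exact Ideal.mem_map_of_mem ((upπ L p W).comp (upC L p W)) hc'
  obtain ⟨y, hy, hy'⟩ := (Ideal.mem_map_iff_of_surjective _ hπ).1 h1
  exact ⟨y, hy, hy'⟩

/-! ### The coordinates of the kernel -/

/-- Sections as sections of the structure module. -/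
abbrev toO (V : X.Opens) (s : Sec x V) : Γ(Coh.structureModule X, V) := s

/-- The coordinates of a tuple. -/
def covCof (W : Aff X) (l : C' →ₗ[k] k) : Up L p W →+ Γ(cov L.𝒰 (Coh.structureModule X), W.1) where
  toFun z := covMk L.𝒰 _ W.1 fun i => toO (x := x) _ (cof _ l (upT L p W i z))
  map_zero' := covGet_ext L.𝒰 fun i => by
    rw [covGet_covMk, map_zero, map_zero, map_zero]
  map_add' a b := covGet_ext L.𝒰 fun i => by
    rw [covGet_covMk, map_add (covGet L.𝒰 _ _ i), covGet_covMk, covGet_covMk, map_add, map_add]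

theorem covGet_covCof (W : Aff X) (l : C' →ₗ[k] k) (z : Up L p W) (i : L.𝒰.ι) :
    covGet L.𝒰 _ W.1 i (covCof W l z) = toO (x := x) _ (cof _ l (upT L p W i z)) :=
  covGet_covMk _ _ _ _ _

theorem covCof_res {V W : Aff X} (h : V ≤ W) (l : C' →ₗ[k] k) (z : Up L p W) :
    covCof V l (upRes L p h z) = resM _ h (covCof W l z) := covGet_ext L.𝒰 fun i => by
  rw [covGet_covCof, covGet_res, covGet_covCof, upT_res, cof_resT]
  rfl

theorem covCof_mul (hp : Art.IsSemismallExt p) {W : Aff X} (l : C' →ₗ[k] k) {z : Up L p W}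
    (hz : upπ L p W z = 0) (a : Up L p W) :
    covCof W l (z * a) = (show Γ(X, W.1) from upq L p W a) • covCof W l z := covGet_ext L.𝒰 fun i => by
  rw [covGet_covCof, covGet_smul, covGet_covCof, map_mul, cof_mul p hp _ l (mapT_upT_eq_zero hz i), redT_upT]
  exact mul_comm (G := Γ(X, _)) _ _

theorem covCof_congr (hp : Function.Surjective p) {W : Aff X} {l l' : C' →ₗ[k] k} {z : Up L p W}
    (hz : upπ L p W z = 0) (h : ∀ c ∈ RingHom.ker p.toAlgHom, l c = l' c) :
    covCof W l z = covCof W l' z := covGet_ext L.𝒰 fun i => by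
  rw [covGet_covCof, covGet_covCof, cof_congr p hp _ (mapT_upT_eq_zero hz i) h]

set_option maxHeartbeats 1000000 in
/-- An element of the ideal of the maximal ideal lying over zero has coordinates coming from the base. -/
theorem covCof_mem (hp : Art.IsSemismallExt p) {W : Aff X} (l : C' →ₗ[k] k) {y : Up L p W}
    (hy : y ∈ upM L p W) (hy' : upπ L p W y = 0) :
    ∃ b, (toCov L.𝒰 (Coh.structureModule X)).app W.1 b = covCof W l y := by
  classical
  obtain ⟨κ, e, he⟩ := (isDefD ξ W).exists_basis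
  choose ê hê using fun a => exists_upLift (L := L) hp.1 W (e a)
  have hb := (isDefD ξ W).bijective_comb he
  let Φ : (κ →₀ C') →+ Up L p W := Finsupp.liftAddHom fun a =>
    (AddMonoidHom.mulRight (ê a)).comp (upC L p W).toAddMonoidHom
  have hΦπ : ∀ v, upπ L p W (Φ v) = comb (secD ξ W.1) e (v.mapRange p (map_zero p.toAlgHom)) := fun v => by
    rw [comb, Finsupp.sum_mapRange_index (fun a => by simp), Finsupp.liftAddHom_apply, map_finsuppSum]
    exact Finsupp.sum_congr fun a _ => by simp [upπ_C, hê]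
  have hdec : ∀ w : Up L p W, ∃ v n, w = Φ v + n ∧ upπ L p W n = 0 := fun w => by
    obtain ⟨u, hu⟩ := hb.2 (upπ L p W w)
    obtain ⟨v, rfl⟩ := Finsupp.mapRange_surjective (α := κ) p (map_zero p.toAlgHom) hp.1 u
    exact ⟨v, w - Φ v, (add_sub_cancel _ _).symm, by rw [map_sub, hΦπ, hu, sub_self]⟩
  have hann : ∀ (c : C') (n : Up L p W), c ∈ IsLocalRing.maximalIdeal C' → upπ L p W n = 0 →
      upC L p W c * n = 0 := fun c n hc hn => by
    refine up_ext (by rw [map_mul, hn, mul_zero, map_zero]) fun i => eq_zero_of_cof _ fun l' => ?_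
    rw [map_mul, mul_comm, cof_mul p hp _ l' (mapT_upT_eq_zero hn i), upT_C, redT_tmul,
      (Art.mem_maximalIdeal_iff _ _).1 hc, map_zero, zero_mul, mul_zero]
  have key : ∀ z ∈ upM L p W, ∀ w : Up L p W, ∃ v, Φ v = w * z := by
    intro z hz
    induction hz using Submodule.span_induction with
    | mem z hz =>
      obtain ⟨c, hc, rfl⟩ := hz
      intro w
      obtain ⟨v, n, rfl, hn⟩ := hdec w
      refine ⟨v.mapRange (c * ·) (mul_zero c), ?_⟩
      rw [add_mul, mul_comm n, hann c n hc hn, add_zero, Finsupp.liftAddHom_apply, Finsupp.liftAddHom_apply,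
        Finsupp.sum_mapRange_index (fun a => by simp), Finsupp.sum_mul]
      refine Finsupp.sum_congr fun a _ => ?_
      change upC L p W (c * v a) * ê a = upC L p W (v a) * ê a * upC L p W c
      rw [map_mul]
      ring
    | zero => exact fun w => ⟨0, by simp⟩
    | add a b _ _ iha ihb =>
      intro w
      obtain ⟨v, hv⟩ := iha w
      obtain ⟨v', hv'⟩ := ihb w
      exact ⟨v + v', by rw [map_add, hv, hv', mul_add]⟩
    | smul r z _ ih =>
      intro w
      obtain ⟨v, hv⟩ := ih (w * r)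
      exact ⟨v, by rw [hv, smul_eq_mul, mul_assoc]⟩
  obtain ⟨v, hv⟩ := key y hy 1
  rw [one_mul] at hv
  subst hv
  rw [hΦπ] at hy'
  have hvJ : ∀ a, v a ∈ RingHom.ker p.toAlgHom := fun a => by
    have := DFunLike.congr_fun (hb.1 (a₂ := 0) (hy'.trans (by simp [comb]))) a
    rwa [Finsupp.mapRange_apply] at this
  refine ⟨v.sum fun a c => toO (x := x) W.1 (l c • qD ξ W.1 (e a)), covGet_ext L.𝒰 fun i => ?_⟩
  rw [covGet_toCov, covGet_covCof, Finsupp.liftAddHom_apply, map_finsuppSum, map_finsuppSum, map_finsuppSum]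
  refine Finsupp.sum_congr fun a _ => ?_
  change resS x (cutA_le_right (L.𝒰.U i) W) (l (v a) • qD ξ W.1 (e a)) =
    cof _ l (upT L p W i (upC L p W (v a) * ê a))
  have hπ0 : mapT p (L.cV i W).1 ((v a) ⊗ₜ[k] (1 : Sec x _)) = 0 := by
    rw [mapT_tmul, show p (v a) = 0 from hvJ a, TensorProduct.zero_tmul]
  rw [map_mul, upT_C, cof_mul p hp _ l hπ0, redT_upT, cof_tmul, map_smul, smul_one_mul]
  exact congrArg (fun r => l (v a) • resS x (cutA_le_right (L.𝒰.U i) W) r) (congrArg (qD ξ W.1) (hê a).symm)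

end Groth.Agent.H9DefObs
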